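import Cfsg.Agent.Lib.E8Cent.Data
import Cfsg.Agent.Lib.Golay.Mathieu
import Cfsg.Agent.Lib.Co1Recog.Endgame.Data

/-!
Boolean tests on codes of monomial elements of Co₁.
-/

set_option autoImplicit false
set_option maxRecDepth 20000

namespace Cfsg.Agent.Co1Endgame

open Cfsg.Agent.Golay Cfsg.Agent.PermCert

/-! ### Tests on codes -/

/-- The mask of all points. -/
abbrev full : ℕ := 16777215

/-- A code of a monomial element. -/
def okMo (e : Mo) : Bool := validElt 5 24 e.2 && isAutB e.2 && inCode e.1

/-- Equality of sign masks up to the negation. -/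
def eqS (a b : ℕ) : Bool := Nat.beq a b || Nat.beq a (b ^^^ full)

/-- The sign mask of a product. -/
def pMask (e f : Mo) : ℕ := e.1 ^^^ imgMask e.2 f.1

/-- Equality of the permutation parts of two products. -/
def samePP (a b c d : Elt) : Bool :=
  allBelow (fun k => Nat.beq (get 5 a.1 (get 5 b.1 k)) (get 5 c.1 (get 5 d.1 k))) 24

/-- Equality of two products. -/
def prodEqB (e f g h : Mo) : Bool := samePP e.2 f.2 g.2 h.2 && eqS (pMask e f) (pMask g h)

/-- Commuting elements. -/
def commB (e f : Mo) : Bool := prodEqB e f f e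

/-- The points fixed by a product of permutations. -/
def fixMask (a b : Elt) : ℕ := mkMask (fun k => Nat.beq (get 5 a.1 (get 5 b.1 k)) k) 24

/-- Trace zero. -/
def trZero (F c : ℕ) : Bool := Nat.beq (popCount F 24) (2 * popCount (c &&& F) 24)

/-- Trace of absolute value 64. -/
def trEight (F c : ℕ) : Bool :=
  Nat.beq (popCount F 24) (2 * popCount (c &&& F) 24 + 8) || Nat.beq (2 * popCount (c &&& F) 24) (popCount F 24 + 8)

/-- The product may be a conjugate of the octad involution. -/
def aTest (e f : Mo) : Bool := trEight (fixMask e.2 f.2) (pMask e f)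

/-- The lift squares to one. -/
def sqB (e : Mo) : Bool :=
  allBelow (fun k => Nat.beq (get 5 e.2.1 (get 5 e.2.1 k)) k) 24 && Nat.beq (pMask e e) 0

/-- The identity as a coded permutation. -/
def idElt : Elt := (pack 5 id 24, pack 5 id 24)

/-- The code of the identity. -/
def oneMo : Mo := (0, idElt)

end Cfsg.Agent.Co1Endgame
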