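import Cfsg.Agent.Lib.E8Cent.Co1
import Cfsg.Agent.Lib.Co1Recog.Endgame.Tests

/-!
Coded monomial elements of Co₁, equality of products, and two invariants of conjugacy: the trace of a lift up to
sign and the square of a lift.
-/

set_option autoImplicit false
set_option maxRecDepth 20000

namespace Cfsg.Agent.Co1Endgame

open Cfsg Cfsg.Agent.Golay Cfsg.Agent.Leech Cfsg.Agent.PermCert Finset
open Cfsg.Agent.E8Cent (piH piH_eq)

theorem allBelow_of {p : ℕ → Bool} : ∀ n, (∀ k < n, p k = true) → allBelow p n = true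
  | 0, _ => rfl
  | n + 1, h => by
    show (allBelow p n && p n) = true
    rw [allBelow_of n fun k hk => h k (by omega), h n (by omega)]; rfl

/-! ### The elements -/

/-- The monomial pair of a code. -/
def monoP (e : Mo) (h : okMo e = true) : M24 × golayCode :=
  (⟨permOf e.2, by
      simp only [okMo, Bool.and_eq_true] at h
      exact permOf_mem_M24 h.1.1 h.1.2⟩,
    ⟨ofMask e.1, by
      simp only [okMo, Bool.and_eq_true] at h
      exact ofMask_mem_golayCode h.2⟩)

theorem okMo_parts {e : Mo} (h : okMo e = true) : validElt 5 24 e.2 = true ∧ e.1 < 2 ^ 24 := by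
  simp only [okMo, Bool.and_eq_true] at h
  exact ⟨h.1.1, lt_of_mem_codeList (inCode_iff.1 h.2)⟩

/-- The element of Co₁ with a given code. -/
noncomputable def moEl (e : Mo) : Spor.Co1 :=
  if h : okMo e = true then piH (mono (monoP e h)) else 1

theorem moEl_eq {e : Mo} (h : okMo e = true) : moEl e = piH (mono (monoP e h)) := dif_pos h

theorem oneMo_ok : okMo oneMo = true := by decide +kernel

theorem negCo0_mul (a : M24 × golayCode) :
    mono a * negCo0 = mono (a.1, ⟨(a.2 : GolayPt → ZMod 2) + 1, golayCode.add_mem a.2.2 one_mem_code⟩) := by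
  rw [negCo0, mono_mul]
  exact congrArg mono (Prod.ext (mul_one _) (Subtype.ext (funext fun i => rfl)))

theorem piH_mono_iff {a b : M24 × golayCode} :
    piH (mono a) = piH (mono b) ↔ a.1 = b.1 ∧
      ((b.2 : GolayPt → ZMod 2) = a.2 ∨ (b.2 : GolayPt → ZMod 2) = (a.2 : GolayPt → ZMod 2) + 1) := by
  rw [piH_eq, negCo0_mul]
  constructor
  · rintro (h | h) <;> have e := mono_injective h <;> subst e
    · exact ⟨rfl, Or.inl rfl⟩
    · exact ⟨rfl, Or.inr rfl⟩
  · rintro ⟨h1, h2 | h2⟩
    · exact Or.inl (congrArg mono (Prod.ext h1.symm (Subtype.ext h2)))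
    · exact Or.inr (congrArg mono (Prod.ext h1.symm (Subtype.ext h2)))

theorem ofMask_img {e : Elt} (h : validElt 5 24 e = true) (m : ℕ) :
    (fun i => ofMask m ((permOf e).symm i)) = ofMask (imgMask e m) := by
  funext i
  simp only [ofMask, imgMask, testBit_mkMask, idx_lt, decide_true, Bool.true_and, idx_permOf_symm h]

theorem pairMul_monoP {e f : Mo} (he : okMo e = true) (hf : okMo f = true) :
    ((pairMul (monoP e he) (monoP f hf)).1 : Equiv.Perm GolayPt) = permOf e.2 * permOf f.2 ∧
      ((pairMul (monoP e he) (monoP f hf)).2 : GolayPt → ZMod 2) = ofMask (pMask e f) := by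
  refine ⟨rfl, ?_⟩
  rw [pMask, ofMask_xor, ← ofMask_img (okMo_parts he).1]
  rfl

theorem pMask_lt {e f : Mo} (he : okMo e = true) : pMask e f < 2 ^ 24 :=
  Nat.xor_lt_two_pow (okMo_parts he).2 (mkMask_lt _ _)

theorem moEl_mul {e f : Mo} (he : okMo e = true) (hf : okMo f = true) :
    moEl e * moEl f = piH (mono (pairMul (monoP e he) (monoP f hf))) := by
  rw [moEl_eq he, moEl_eq hf, ← map_mul, mono_mul]

theorem idx_mul {e f : Elt} (he : validElt 5 24 e = true) (hf : validElt 5 24 f = true) (p : GolayPt) :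
    idx ((permOf e * permOf f) p) = get 5 e.1 (get 5 f.1 (idx p)) := by
  rw [Equiv.Perm.mul_apply, idx_permOf he, idx_permOf hf]

theorem prodEq_iff {e f g h : Mo} (he : okMo e = true) (hf : okMo f = true) (hg : okMo g = true)
    (hh : okMo h = true) : prodEqB e f g h = true ↔ moEl e * moEl f = moEl g * moEl h := by
  obtain ⟨p1, c1⟩ := pairMul_monoP he hf
  obtain ⟨p2, c2⟩ := pairMul_monoP hg hh
  rw [moEl_mul he hf, moEl_mul hg hh, piH_mono_iff, Subtype.ext_iff, p1, p2, c1, c2, prodEqB,
    Bool.and_eq_true, eqS, Bool.or_eq_true, Nat.beq_eq, Nat.beq_eq]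
  refine and_congr ⟨fun hs => Equiv.ext fun p => idx_injective ?_, fun hs => ?_⟩ ?_
  · rw [idx_mul (okMo_parts he).1 (okMo_parts hf).1, idx_mul (okMo_parts hg).1 (okMo_parts hh).1]
    exact Nat.eq_of_beq_eq_true (allBelow_spec _ _ hs _ (idx_lt p))
  · rw [samePP]
    have key : ∀ k < 24, Nat.beq (get 5 e.2.1 (get 5 f.2.1 k)) (get 5 g.2.1 (get 5 h.2.1 k)) = true := by
      intro k hk
      rw [Nat.beq_eq]
      have := congrArg (fun σ : Equiv.Perm GolayPt => idx (σ (pt ⟨k, hk⟩))) hs
      simpa only [idx_mul (okMo_parts he).1 (okMo_parts hf).1, idx_mul (okMo_parts hg).1 (okMo_parts hh).1,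
        idx_pt] using this
    exact allBelow_of 24 key
  · have hfull : full < 2 ^ 24 := by norm_num
    constructor
    · rintro (r | r)
      · exact Or.inl (by rw [r])
      · refine Or.inr ?_
        rw [r, ofMask_xor, one_eq, add_assoc, CharTwo.add_self_eq_zero, add_zero]
    · rintro (r | r)
      · exact Or.inl (ofMask_inj (pMask_lt hg) (pMask_lt he) r).symm
      · refine Or.inr (ofMask_inj (pMask_lt he) (Nat.xor_lt_two_pow (pMask_lt hg) hfull) ?_)
        rw [ofMask_xor, r, one_eq, add_assoc, CharTwo.add_self_eq_zero, add_zero]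

theorem comm_iff {e f : Mo} (he : okMo e = true) (hf : okMo f = true) :
    commB e f = true ↔ moEl e * moEl f = moEl f * moEl e := prodEq_iff he hf hf he

/-! ### The trace of a lift -/

/-- Eight times the trace. -/
def trA (g : Co0) : ℤ := ∑ p, ((g • axis p : leechLattice) : GolayPt → ℤ) p

theorem smul_coord (g : Co0) (v : leechLattice) (k : GolayPt) :
    8 * ((g • v : leechLattice) : GolayPt → ℤ) k =
      ∑ i, (v : GolayPt → ℤ) i * ((g • axis i : leechLattice) : GolayPt → ℤ) k := by
  have e : (8 : ℤ) • v = ∑ i, (v : GolayPt → ℤ) i • axis i := by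
    refine Subtype.ext (funext fun k => ?_)
    simp only [AddSubgroup.coe_zsmul, AddSubgroup.val_finset_sum, Pi.smul_apply, Finset.sum_apply,
      coe_axis, Pi.single_apply, smul_eq_mul, mul_ite, mul_zero, sum_ite_eq, mem_univ, if_true]
    ring
  have h := congrArg (hom0 g) e
  rw [map_zsmul, map_sum] at h
  simp only [map_zsmul, hom0_apply] at h
  have := congrFun (congrArg Subtype.val h) k
  simpa only [AddSubgroup.coe_zsmul, AddSubgroup.val_finset_sum, Pi.smul_apply, Finset.sum_apply, smul_eq_mul]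
    using this

theorem trA_comm (g h : Co0) : trA (g * h) = trA (h * g) := by
  have e : ∀ g h : Co0, 8 * trA (g * h) =
      ∑ p, ∑ r, ((h • axis p : leechLattice) : GolayPt → ℤ) r * ((g • axis r : leechLattice) : GolayPt → ℤ) p :=
    fun g h => by
      rw [trA, mul_sum]
      exact sum_congr rfl fun p _ => by rw [mul_smul, smul_coord]
  have h1 := e g h
  rw [sum_comm, sum_congr rfl (fun r _ => sum_congr rfl fun p _ => mul_comm _ _), ← e h g] at h1
  omega

theorem trA_neg (g : Co0) : trA (g * negCo0) = -trA g := by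
  rw [trA, trA, ← sum_neg_distrib]
  refine sum_congr rfl fun p _ => ?_
  rw [mul_smul, negCo0_smul, co0_neg, AddSubgroup.coe_neg, Pi.neg_apply]

/-- The absolute value of the trace of the lifts. -/
def HasTr (x : Spor.Co1) (n : ℤ) : Prop := ∀ g : Co0, piH g = x → |trA g| = n

theorem hasTr_mk (g : Co0) : HasTr (piH g) |trA g| := fun h e => by
  rcases piH_eq.1 e with r | r
  · rw [r]
  · rw [r, trA_neg, abs_neg]

theorem HasTr.conj {x y : Spor.Co1} {n : ℤ} (h : HasTr x n) (hc : IsConj x y) : HasTr y n := by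
  intro g e
  obtain ⟨c, hc⟩ := isConj_iff.1 hc
  obtain ⟨c0, rfl⟩ := QuotientGroup.mk'_surjective (Subgroup.center Co0) c
  have := h (c0⁻¹ * g * c0) (by
    rw [map_mul, map_mul, map_inv, e, ← hc, piH]
    group)
  rwa [trA_comm, mul_inv_cancel_left] at this

theorem HasTr.unique {x : Spor.Co1} {m n : ℤ} (h : HasTr x m) (h' : HasTr x n) : m = n := by
  obtain ⟨g, rfl⟩ := QuotientGroup.mk'_surjective (Subgroup.center Co0) x
  exact (h g rfl).symm.trans (h' g rfl)

theorem trA_mono (a : M24 × golayCode) :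
    trA (mono a) = ∑ p, if (a.1 : Equiv.Perm GolayPt) p = p then 8 * sgn a.2 p else 0 := by
  refine sum_congr rfl fun p _ => ?_
  rw [mono_axis, AddSubgroup.coe_zsmul, Pi.smul_apply, coe_axis, Pi.single_apply, smul_eq_mul]
  by_cases h : (a.1 : Equiv.Perm GolayPt) p = p
  · rw [if_pos h, if_pos h.symm, h, mul_comm]
  · rw [if_neg h, if_neg (Ne.symm h), mul_zero]

theorem hasTr_prod {e f : Mo} (he : okMo e = true) (hf : okMo f = true) :
    HasTr (moEl e * moEl f) |8 * ((popCount (fixMask e.2 f.2) 24 : ℤ) -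
      2 * popCount (pMask e f &&& fixMask e.2 f.2) 24)| := by
  obtain ⟨p1, c1⟩ := pairMul_monoP he hf
  rw [moEl_mul he hf]
  convert hasTr_mk _ using 2
  rw [trA_mono, ← card_maskSet, ← card_maskSet, maskSet_and]
  have hfix : ∀ p, ((pairMul (monoP e he) (monoP f hf)).1 : Equiv.Perm GolayPt) p = p ↔
      p ∈ maskSet (fixMask e.2 f.2) := fun p => by
    rw [p1, mem_maskSet, fixMask, testBit_mkMask, decide_eq_true (idx_lt p), Bool.true_and, Nat.beq_eq,
      ← idx_mul (okMo_parts he).1 (okMo_parts hf).1]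
    exact idx_injective.eq_iff.symm
  simp only [hfix, c1]
  set F := maskSet (fixMask e.2 f.2)
  set m := pMask e f
  rw [sum_ite_mem, univ_inter]
  have hs : ∀ p, sgn (ofMask m) p = 1 - 2 * (if p ∈ maskSet m then (1 : ℤ) else 0) := fun p => by
    simp only [sgn, ofMask, mem_maskSet]
    rcases Bool.eq_false_or_eq_true (m.testBit (idx p)) with r | r <;> simp [r]
  simp only [hs, mul_sub, sum_sub_distrib, sum_const, nsmul_eq_mul, ← mul_sum, sum_ite_mem, inter_comm F]
  push_cast
  ring

theorem not_trEight {e f : Mo} (he : okMo e = true) (hf : okMo f = true) (h : aTest e f = false) :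
    ¬ HasTr (moEl e * moEl f) 64 := fun ht => by
  have := (hasTr_prod he hf).unique ht
  simp only [aTest, trEight, Bool.or_eq_false_iff] at h
  have h1 : ¬ Nat.beq _ _ = true := Bool.eq_false_iff.1 h.1
  have h2 : ¬ Nat.beq _ _ = true := Bool.eq_false_iff.1 h.2
  rw [Nat.beq_eq] at h1 h2
  rcases abs_eq (by norm_num : (0 : ℤ) ≤ 64) |>.1 this with r | r <;> omega

theorem trZero_of {e f : Mo} (he : okMo e = true) (hf : okMo f = true) (ht : HasTr (moEl e * moEl f) 0) :
    trZero (fixMask e.2 f.2) (pMask e f) = true := by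
  have := abs_eq_zero.1 ((hasTr_prod he hf).unique ht)
  rw [trZero, Nat.beq_eq]
  omega

/-! ### The square of a lift -/

/-- Every lift squares to one. -/
def SqOne (x : Spor.Co1) : Prop := ∀ g : Co0, piH g = x → g * g = 1

theorem neg_sq_same (g : Co0) : g * negCo0 * (g * negCo0) = g * g := by
  have hc : negCo0 ∈ Subgroup.center Co0 := Leech.mem_center_iff.2 (Or.inr rfl)
  calc g * negCo0 * (g * negCo0) = g * (negCo0 * g) * negCo0 := by simp only [mul_assoc]
    _ = g * (g * negCo0) * negCo0 := by rw [Subgroup.mem_center_iff.1 hc g]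
    _ = g * g * (negCo0 * negCo0) := by simp only [mul_assoc]
    _ = g * g := by
      rw [show negCo0 * negCo0 = 1 from co0_ext fun i => by
        rw [mul_smul, negCo0_smul, negCo0_smul, neg_neg, one_smul], mul_one]

theorem sqOne_mk {g : Co0} (h : g * g = 1) : SqOne (piH g) := fun k e => by
  rcases piH_eq.1 e with r | r
  · rw [← r, h]
  · rw [← neg_sq_same k, ← r, h]

theorem SqOne.conj {x y : Spor.Co1} (h : SqOne x) (hc : IsConj x y) : SqOne y := by
  intro g e
  obtain ⟨c, hc⟩ := isConj_iff.1 hc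
  obtain ⟨c0, rfl⟩ := QuotientGroup.mk'_surjective (Subgroup.center Co0) c
  have := h (c0⁻¹ * g * c0) (by
    rw [map_mul, map_mul, map_inv, e, ← hc, piH]
    group)
  have e2 : g * g = c0 * (c0⁻¹ * g * c0 * (c0⁻¹ * g * c0)) * c0⁻¹ := by group
  rw [e2, this]; group

theorem sqB_of {e : Mo} (he : okMo e = true) (h : SqOne (moEl e)) : sqB e = true := by
  obtain ⟨p1, c1⟩ := pairMul_monoP he he
  have hone : mono (pairMul (monoP e he) (monoP e he)) = mono (1, 0) := by
    rw [← mono_mul, h _ (moEl_eq he).symm]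
    exact diag_zero.symm
  have hp := congrArg Prod.fst (mono_injective hone)
  have hc := congrArg (fun a : M24 × golayCode => (a.2 : GolayPt → ZMod 2)) (mono_injective hone)
  simp only [c1] at hc
  have hperm : permOf e.2 * permOf e.2 = 1 := p1 ▸ congrArg Subtype.val hp
  have key : ∀ k < 24, Nat.beq (get 5 e.2.1 (get 5 e.2.1 k)) k = true := fun k hk => by
    have := congrArg (fun σ : Equiv.Perm GolayPt => idx (σ (pt ⟨k, hk⟩))) hperm
    simp only [idx_mul (okMo_parts he).1 (okMo_parts he).1, Equiv.Perm.one_apply, idx_pt] at this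
    exact Nat.beq_eq.mpr this
  rw [sqB, Bool.and_eq_true]
  refine ⟨?_, Nat.beq_eq.mpr (ofMask_inj (pMask_lt he) (by norm_num) (by rw [hc, ofMask_zero]; rfl))⟩
  exact allBelow_of 24 key

end Cfsg.Agent.Co1Endgame
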