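import Cfsg.Agent.Lib.Co1Recog.Endgame.Defs

/-!
Kernel checks: the completeness of the candidates, in ranges of permutations.
-/

set_option autoImplicit false
set_option maxRecDepth 100000
set_option Elab.async false
set_option maxHeartbeats 0

namespace Cfsg.Agent.Co1Endgame

open Cfsg.Agent.Golay Cfsg.Agent.Golay.Cert Cfsg.Agent.PermCert

theorem perms_ok0 : permsOK 0 24 = true := by decide +kernel

theorem perms_ok1 : permsOK 24 24 = true := by decide +kernel

theorem perms_ok2 : permsOK 48 24 = true := by decide +kernel

theorem perms_ok3 : permsOK 72 24 = true := by decide +kernel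

end Cfsg.Agent.Co1Endgame
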