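import Cfsg.Agent.Lib.Co1Recog.Endgame.Defs

/-!
Kernel checks: the stabiliser of an octad and a dodecad, and the completeness of the candidates.
-/

set_option autoImplicit false
set_option maxRecDepth 100000
set_option Elab.async false
set_option maxHeartbeats 0

namespace Cfsg.Agent.Co1Endgame

open Cfsg.Agent.Golay Cfsg.Agent.Golay.Cert Cfsg.Agent.PermCert

theorem basic_ok : okMo uMo = true ∧ okMo aMo = true ∧ okMo zMo = true ∧ okMo bMo = true ∧
    (inCode sqMask && inCode oct0 && Nat.beq (popCount oct0 24) 8) = true ∧
    (validElt 5 24 swapElt && isAutB swapElt && Nat.beq (imgMask swapElt sqMask) (sqMask ^^^ full) &&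
      Nat.beq (imgMask swapElt oct0) oct0) = true ∧
    Nat.beq (pMask bMo bMo) full && samePP bMo.2 bMo.2 idElt idElt &&
      trZero (fixMask bMo.2 idElt) (pMask bMo oneMo) && trZero (fixMask idElt idElt) (pMask uMo oneMo) &&
      aTest zMo oneMo && aTest aMo oneMo = true := by decide +kernel

theorem stab_ok : (stabList.all fun e => validElt 5 24 e && inStabB [sqMask, oct0] e) = true ∧
    incr (fun i => pack 5 (fun k => get 5 (stabList.getD i idElt).1 k) 24) 191 = true ∧
    stabList.length = 192 := by decide +kernel

theorem trans_ok : (transList.all fun e => validElt 5 24 e && inStabB m12Inv e) = true ∧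
    incr (fun i => imgMask (transList.getD i idElt) oct0) 494 = true ∧ transList.length = 495 := by
  decide +kernel

theorem swap_mul_ok : (stabList.all fun e => validElt 5 24 (mulE swapElt e) && isAutB (mulE swapElt e) &&
    allBelow (fun k => Nat.beq (get 5 (mulE swapElt e).1 k) (get 5 swapElt.1 (get 5 e.1 k))) 24) = true := by
  decide +kernel

theorem cand_ok : ((candFlat candList).all fun e => okMo e) = true := by decide +kernel

theorem kall_len : kAll.length = 384 := by decide +kernel

end Cfsg.Agent.Co1Endgame
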