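import Cfsg.Agent.Lib.Co1Recog.Endgame.Cent
import Cfsg.Agent.Lib.Co1Recog.Endgame.ChecksPerm
import Cfsg.Agent.Lib.Co1Recog.Endgame.ChecksCand0
import Cfsg.Agent.Lib.Co1Recog.Endgame.ChecksCand1
import Cfsg.Agent.Lib.Co1Recog.Endgame.ChecksCand2
import Cfsg.Agent.Lib.Co1Recog.Endgame.ChecksCand3

/-!
The candidates are complete: an involution of the centraliser of a dodecad sign change which commutes with the
octad sign change, has lift of square one and trace zero, and whose product with the octad sign change is a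
conjugate of it, is listed.
-/

set_option autoImplicit false
set_option maxRecDepth 20000

namespace Cfsg.Agent.Co1Endgame

open Cfsg Cfsg.Agent.Golay Cfsg.Agent.Golay.Cert Cfsg.Agent.Leech Cfsg.Agent.PermCert Finset
open Cfsg.Agent.E8Cent (piH piH_eq)
open scoped Pointwise

attribute [local irreducible] stabList transList swapElt candList oct0

theorem moEl_one : moEl oneMo = 1 := by
  have h := (prodEq_iff oneMo_ok oneMo_ok oneMo_ok oneMo_ok).2 rfl
  have e : moEl oneMo * moEl oneMo = moEl oneMo := by
    have key : mono (pairMul (monoP oneMo oneMo_ok) (monoP oneMo oneMo_ok)) = mono (monoP oneMo oneMo_ok) := by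
      refine congrArg mono (Prod.ext (Subtype.ext ?_) (Subtype.ext ?_))
      · show permOf idElt * permOf idElt = permOf idElt
        rw [idElt_perm, one_mul]
      · show (ofMask 0 + fun i => ofMask 0 ((permOf idElt).symm i)) = ofMask 0
        funext i
        simp [ofMask_zero]
    rw [moEl_mul oneMo_ok oneMo_ok, key, moEl_eq oneMo_ok]
  exact mul_eq_left.1 e

theorem uMo_ok' : okMo uMo = true := basic_ok.1

theorem aMo_ok : okMo aMo = true := basic_ok.2.1

theorem sets_ok : (sqMask ∈ codeList ∧ oct0 ∈ codeList) ∧ (maskSet oct0).card = 8 := by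
  have h := basic_ok.2.2.2.2.1
  simp only [Bool.and_eq_true, Nat.beq_eq] at h
  exact ⟨⟨inCode_iff.1 h.1.1, inCode_iff.1 h.1.2⟩, by rw [card_maskSet]; exact h.2⟩

/-! ### The permutations -/

/-- Commuting with a diagonal element: the mask is fixed or complemented. -/
theorem fix_or_compl {a : M24 × golayCode} {m : ℕ} (h : okMo (m, idElt) = true)
    (hc : piH (mono a) * moEl (m, idElt) = moEl (m, idElt) * piH (mono a)) :
    (a.1 : Equiv.Perm GolayPt) • maskSet m = maskSet m ∨
      (a.1 : Equiv.Perm GolayPt) • maskSet m = (maskSet m)ᶜ := by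
  rw [moEl_eq h, ← map_mul, ← map_mul, mono_mul, mono_mul, piH_mono_iff] at hc
  set d := ofMask m with hd
  set σ := (a.1 : Equiv.Perm GolayPt) with hσ
  have h1 : ((pairMul a (monoP (m, idElt) h)).2 : GolayPt → ZMod 2) = (a.2 : GolayPt → ZMod 2) + fun i => d (σ.symm i) :=
    rfl
  have h2 : ((pairMul (monoP (m, idElt) h) a).2 : GolayPt → ZMod 2) = d + (a.2 : GolayPt → ZMod 2) := by
    funext i
    simp only [pairMul, monoP, Pi.add_apply, idElt_perm]
    rfl
  have key : (∀ i, d (σ.symm i) = d i) ∨ ∀ i, d (σ.symm i) = d i + 1 := by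
    rcases hc.2 with r | r <;> rw [h1, h2] at r
    · left
      intro i
      have := congrFun r i
      simp only [Pi.add_apply] at this
      linear_combination -this
    · right
      intro i
      have := congrFun r i
      simp only [Pi.add_apply, Pi.one_apply] at this
      have e2 : (1 : ZMod 2) + 1 = 0 := by decide
      linear_combination -this - e2
  have hmem : ∀ i, i ∈ maskSet m ↔ d i = 1 := fun i => by
    rw [mem_maskSet, hd, ofMask]
    rcases Bool.eq_false_or_eq_true (m.testBit (idx i)) with r | r <;> simp [r]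
  have hmem' : ∀ i, i ∈ σ • maskSet m ↔ d (σ.symm i) = 1 := fun i => by
    rw [← Finset.inv_smul_mem_iff, hmem]
    rfl
  rcases key with k | k
  · exact Or.inl (Finset.ext fun i => by rw [hmem', k, hmem])
  · refine Or.inr (Finset.ext fun i => ?_)
    rw [hmem', k, mem_compl, hmem]
    rcases zmod2_cases (d i) with r | r <;> rw [r] <;> decide

theorem incr_inj {f : ℕ → ℕ} {n : ℕ} (h : incr f n = true) :
    ∀ i j, i ≤ n → j ≤ n → f i = f j → i = j := by
  have step : ∀ k < n, f k < f (k + 1) := fun k hk => Nat.le_of_ble_eq_true (allBelow_spec _ _ h k hk)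
  have mono' : ∀ i j, i < j → j ≤ n → f i < f j := by
    intro i j hij
    induction j with
    | zero => omega
    | succ j ih =>
      intro hj
      rcases Nat.lt_succ_iff_lt_or_eq.1 hij with r | r
      · exact (ih r (by omega)).trans (step j (by omega))
      · subst r; exact step i (by omega)
  intro i j hi hj e
  rcases lt_trichotomy i j with r | r | r
  · exact absurd e (mono' i j r hj).ne
  · exact r
  · exact absurd e.symm (mono' j i r hi).ne

theorem pack_congr {f g : ℕ → ℕ} : ∀ n, (∀ i < n, f i = g i) → pack 5 f n = pack 5 g n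
  | 0, _ => rfl
  | n + 1, h => by rw [pack_succ, pack_succ, pack_congr n fun i hi => h i (by omega), h n (by omega)]

theorem stab_mem {i : ℕ} (hi : i < 192) :
    stabList.getD i idElt ∈ stabList ∧ validElt 5 24 (stabList.getD i idElt) = true ∧
      permOf (stabList.getD i idElt) ∈ stabIn [sqMask, oct0] := by
  have hlen := stab_ok.2.2
  have hm : stabList.getD i idElt ∈ stabList := by
    rw [List.getD_eq_getElem _ _ (by omega)]
    exact List.getElem_mem _
  have := List.all_eq_true.1 stab_ok.1 _ hm
  simp only [inStabB, List.all_cons, List.all_nil, Bool.and_eq_true, Nat.beq_eq, Bool.and_true] at this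
  obtain ⟨hv, ha, ⟨-, h1⟩, -, h2⟩ := this
  refine ⟨hm, hv, permOf_mem_M24 hv ha, fun o ho => ?_⟩
  simp only [List.mem_cons, List.not_mem_nil, or_false] at ho
  rw [maskSet_imgMask hv]
  rcases ho with rfl | rfl
  · rw [h1]
  · rw [h2]

theorem trans_mem {i : ℕ} (hi : i < 495) :
    validElt 5 24 (transList.getD i idElt) = true ∧ permOf (transList.getD i idElt) ∈ stabIn m12Inv := by
  have hlen := trans_ok.2.2
  have hm : transList.getD i idElt ∈ transList := by
    rw [List.getD_eq_getElem _ _ (by omega)]
    exact List.getElem_mem _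
  have := List.all_eq_true.1 trans_ok.1 _ hm
  simp only [inStabB, m12Inv, List.all_cons, List.all_nil, Bool.and_eq_true, Nat.beq_eq, Bool.and_true] at this
  obtain ⟨hv, ha, -, h1⟩ := this
  refine ⟨hv, permOf_mem_M24 hv ha, fun o ho => ?_⟩
  simp only [m12Inv, List.mem_singleton] at ho
  subst ho
  rw [maskSet_imgMask hv, h1]

/-- The stabiliser of the dodecad and the octad is listed. -/
theorem stab_complete {σ : Equiv.Perm GolayPt} (h : σ ∈ stabIn [sqMask, oct0]) :
    ∃ e ∈ stabList, permOf e = σ := by
  have hle : stabIn [sqMask, oct0] ≤ stabIn m12Inv := fun s hs => by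
    refine ⟨hs.1, fun o ho => ?_⟩
    simp only [m12Inv, List.mem_singleton] at ho
    subst ho
    exact hs.2 _ List.mem_cons_self
  let F : Fin 495 × stabIn [sqMask, oct0] → stabIn m12Inv := fun p =>
    ⟨permOf (transList.getD p.1 idElt) * p.2, mul_mem (trans_mem p.1.2).2 (hle p.2.2)⟩
  have hF : Function.Injective F := by
    rintro ⟨i, s⟩ ⟨j, t⟩ e
    have e' : permOf (transList.getD i idElt) * (s : Equiv.Perm GolayPt) =
        permOf (transList.getD j idElt) * t := congrArg Subtype.val e
    have h8 : maskSet (imgMask (transList.getD i idElt) oct0) = maskSet (imgMask (transList.getD j idElt) oct0) := by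
      have hs := s.2.2 oct0 (List.mem_cons_of_mem _ List.mem_cons_self)
      have ht := t.2.2 oct0 (List.mem_cons_of_mem _ List.mem_cons_self)
      have := congrArg (fun g : Equiv.Perm GolayPt => g • maskSet oct0) e'
      simp only [mul_smul, hs, ht] at this
      rwa [maskSet_imgMask (trans_mem i.2).1, maskSet_imgMask (trans_mem j.2).1] at this
    have hij : i = j := Fin.ext (incr_inj trans_ok.2.1 i j (by omega) (by omega)
      (maskSet_inj (mkMask_lt _ _) (mkMask_lt _ _) h8))
    subst hij
    exact Prod.ext rfl (Subtype.ext (mul_left_cancel e'))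
  have hcard : Nat.card (stabIn [sqMask, oct0]) ≤ 192 := by
    have := Nat.card_le_card_of_injective F hF
    rw [Nat.card_prod, Nat.card_eq_fintype_card (α := Fin 495), Fintype.card_fin, card_stabIn_m12] at this
    omega
  let L : Fin 192 → stabIn [sqMask, oct0] := fun i => ⟨_, (stab_mem i.2).2.2⟩
  have hL : Function.Injective L := by
    intro i j e
    have e' : permOf (stabList.getD i idElt) = permOf (stabList.getD j idElt) := congrArg Subtype.val e
    refine Fin.ext (incr_inj stab_ok.2.1 i j (by omega) (by omega) (pack_congr 24 fun k hk => ?_))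
    have := congrArg (fun g : Equiv.Perm GolayPt => idx (g (pt ⟨k, hk⟩))) e'
    simpa only [idx_permOf (stab_mem i.2).2.1, idx_permOf (stab_mem j.2).2.1, idx_pt] using this
  obtain ⟨i, hi⟩ := (hL.bijective_of_nat_card_le (by simpa using hcard)).2 ⟨σ, h⟩
  exact ⟨_, (stab_mem i.2).1, congrArg Subtype.val hi⟩

theorem kAll_complete {σ : Equiv.Perm GolayPt} (hσ : σ ∈ M24)
    (hD : σ • maskSet sqMask = maskSet sqMask ∨ σ • maskSet sqMask = (maskSet sqMask)ᶜ)
    (hO : σ • maskSet oct0 = maskSet oct0) :
    ∃ e ∈ kAll, validElt 5 24 e = true ∧ isAutB e = true ∧ permOf e = σ := by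
  rcases hD with hD | hD
  · obtain ⟨e, he, hp⟩ := stab_complete (σ := σ) ⟨hσ, fun o ho => by
      simp only [List.mem_cons, List.not_mem_nil, or_false] at ho
      rcases ho with rfl | rfl
      · exact hD
      · exact hO⟩
    have := List.all_eq_true.1 stab_ok.1 _ he
    simp only [inStabB, Bool.and_eq_true] at this
    exact ⟨e, List.mem_append.2 (Or.inl he), this.1, this.2.1, hp⟩
  · have hb := basic_ok.2.2.2.2.2.1
    simp only [Bool.and_eq_true, Nat.beq_eq] at hb
    obtain ⟨⟨⟨hv, ha⟩, h1⟩, h2⟩ := hb
    have hτ : permOf swapElt ∈ M24 := permOf_mem_M24 hv ha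
    have hτD : permOf swapElt • maskSet sqMask = (maskSet sqMask)ᶜ := by
      rw [maskSet_imgMask hv, h1]
      ext p
      simp only [mem_maskSet, Nat.testBit_xor, mem_compl]
      rw [show Nat.testBit full (idx p) = true from by
        rw [show full = 2 ^ 24 - 1 from rfl, Nat.testBit_two_pow_sub_one]; simp [idx_lt]]
      rcases Bool.eq_false_or_eq_true (sqMask.testBit (idx p)) with r | r <;> simp [r]
    have hτO : permOf swapElt • maskSet oct0 = maskSet oct0 := by rw [maskSet_imgMask hv, h2]
    obtain ⟨e, he, hp⟩ := stab_complete (σ := (permOf swapElt)⁻¹ * σ)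
      ⟨mul_mem (inv_mem hτ) hσ, fun o ho => by
        simp only [List.mem_cons, List.not_mem_nil, or_false] at ho
        rw [mul_smul, inv_smul_eq_iff]
        rcases ho with rfl | rfl
        · rw [hD, hτD]
        · rw [hO, hτO]⟩
    have := List.all_eq_true.1 swap_mul_ok _ he
    simp only [Bool.and_eq_true] at this
    obtain ⟨⟨hv', ha'⟩, hc⟩ := this
    have hve : validElt 5 24 e = true := by
      have := List.all_eq_true.1 stab_ok.1 _ he
      simp only [Bool.and_eq_true] at this
      exact this.1
    refine ⟨_, List.mem_append.2 (Or.inr (List.mem_map.2 ⟨e, he, rfl⟩)), hv', ha', ?_⟩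
    rw [← eq_inv_mul_iff_mul_eq.1 hp]
    refine Equiv.ext fun p => idx_injective ?_
    rw [idx_permOf hv', idx_mul hv hve]
    exact Nat.eq_of_beq_eq_true (allBelow_spec _ _ hc _ (idx_lt p))

/-! ### The code words -/

theorem halfBasis_eq : gBasis.map (fun v => v.2) = 8391797 :: halfBasis := rfl

theorem halfBasis_lt : ∀ b ∈ halfBasis, b < 2 ^ 23 := fun b hb =>
  Nat.le_of_ble_eq_true (List.all_eq_true.1
    (show halfBasis.all (fun b => Nat.blt b (2 ^ 23)) = true by decide +kernel) b hb)

theorem spanList_lt : ∀ (l : List ℕ), (∀ b ∈ l, b < 2 ^ 23) → ∀ m ∈ spanList l, m < 2 ^ 23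
  | [], _, m, hm => by simp [spanList] at hm; omega
  | b :: l, h, m, hm => by
    have ih := spanList_lt l fun c hc => h c (List.mem_cons_of_mem _ hc)
    simp only [spanList, List.mem_append, List.mem_map] at hm
    rcases hm with r | ⟨x, hx, rfl⟩
    · exact ih m r
    · exact Nat.xor_lt_two_pow (h b List.mem_cons_self) (ih x hx)

/-- Every code word is, up to the negation, a sum of the half basis. -/
theorem half_span {w : GolayPt → ZMod 2} (hw : w ∈ golayCode) :
    ∃ m ∈ spanList halfBasis, m ∈ codeList ∧ (ofMask m = w ∨ ofMask m = w + 1) := by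
  obtain ⟨m, hm, rfl⟩ := mem_golayCode.1 hw
  have hc : ∀ k ∈ codeList, k.testBit 23 = false → k ∈ spanList halfBasis := by
    intro k hk hb
    rw [codeList, halfBasis_eq] at hk
    simp only [spanList, List.mem_append, List.mem_map] at hk
    rcases hk with r | ⟨x, hx, rfl⟩
    · exact r
    · rw [Nat.testBit_xor, Nat.testBit_lt_two_pow (spanList_lt _ halfBasis_lt x hx)] at hb
      exact absurd hb (by decide)
  rcases Bool.eq_false_or_eq_true (m.testBit 23) with r | r
  · have hk : m ^^^ 16777215 ∈ codeList := spanList_xor _ _ hm _ all_mem_codeList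
    refine ⟨_, hc _ hk ?_, hk, Or.inr ?_⟩
    · rw [Nat.testBit_xor, r]; decide
    · rw [ofMask_xor, ← one_eq]
  · exact ⟨m, hc m hm r, hm, Or.inl rfl⟩

/-! ### The checks -/

theorem force_eq {α : Type} (n : ℕ) (k : ℕ → α) : force n k = k n := by cases n <;> rfl

theorem withImgs_eq (e : Elt) : ∀ (l : List ℕ) (k : List (ℕ × ℕ) → Bool),
    withImgs e l k = k (l.map fun b => (b, imgMask e b))
  | [], _ => rfl
  | b :: l, k => by rw [withImgs, force_eq, withImgs_eq e l]; rfl

theorem spanAll_spec (f : ℕ → ℕ → Bool) (e : Elt) : ∀ (l : List ℕ) (m0 i0 : ℕ),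
    spanAll f (l.map fun b => (b, imgMask e b)) m0 i0 = true →
      ∀ x ∈ spanList l, f (m0 ^^^ x) (i0 ^^^ imgMask e x) = true
  | [], m0, i0, h, x, hx => by
    simp only [spanList, List.mem_singleton] at hx
    subst hx
    rw [imgMask_zero, Nat.xor_zero, Nat.xor_zero]
    exact h
  | b :: l, m0, i0, h, x, hx => by
    simp only [List.map_cons, spanAll, force_eq, Bool.and_eq_true] at h
    simp only [spanList, List.mem_append, List.mem_map] at hx
    rcases hx with r | ⟨y, hy, rfl⟩
    · exact spanAll_spec f e l m0 i0 h.1 x r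
    · rw [imgMask_xor, ← Nat.xor_assoc, ← Nat.xor_assoc]
      exact spanAll_spec f e l _ _ h.2 y hy

theorem perms_all {k : ℕ} (hk : k < 384) : permOK (kAll.getD k idElt) = true := by
  have key : ∀ a, permsOK a 24 = true → a ≤ k → k < a + 24 → permOK (kAll.getD k idElt) = true :=
    fun a h h1 h2 => by
      have := allBelow_spec _ _ h (k - a) (by omega)
      rwa [show a + (k - a) = k by omega] at this
  have : k / 24 < 16 := by omega
  interval_cases hq : k / 24
  · exact key 0 perms_ok0 (by omega) (by omega)
  · exact key 24 perms_ok1 (by omega) (by omega)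
  · exact key 48 perms_ok2 (by omega) (by omega)
  · exact key 72 perms_ok3 (by omega) (by omega)
  · exact key 96 perms_ok4 (by omega) (by omega)
  · exact key 120 perms_ok5 (by omega) (by omega)
  · exact key 144 perms_ok6 (by omega) (by omega)
  · exact key 168 perms_ok7 (by omega) (by omega)
  · exact key 192 perms_ok8 (by omega) (by omega)
  · exact key 216 perms_ok9 (by omega) (by omega)
  · exact key 240 perms_ok10 (by omega) (by omega)
  · exact key 264 perms_ok11 (by omega) (by omega)
  · exact key 288 perms_ok12 (by omega) (by omega)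
  · exact key 312 perms_ok13 (by omega) (by omega)
  · exact key 336 perms_ok14 (by omega) (by omega)
  · exact key 360 perms_ok15 (by omega) (by omega)

theorem candFlat_ok {e : Mo} (h : e ∈ candFlat candList) : okMo e = true := List.all_eq_true.1 cand_ok e h

attribute [local irreducible] kAll halfBasis spanList candFlat fixMask trZero trEight aTest mkMask allBelow popCount

/-- **The candidates are complete.** -/
theorem cand_complete {x : Spor.Co1} (hu : x * moEl uMo = moEl uMo * x) (ha : x * moEl aMo = moEl aMo * x)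
    (htr : HasTr x 0) (hsq : SqOne x) (hax : HasTr (moEl aMo * x) 64) :
    ∃ k, k < (candFlat candList).length ∧ x = moEl (candAt k) := by
  obtain ⟨a, rfl⟩ := cent_dodecad hu
  have hD : (a.1 : Equiv.Perm GolayPt) • maskSet sqMask = maskSet sqMask ∨
      (a.1 : Equiv.Perm GolayPt) • maskSet sqMask = (maskSet sqMask)ᶜ := fix_or_compl uMo_ok' hu
  have hO : (a.1 : Equiv.Perm GolayPt) • maskSet oct0 = maskSet oct0 :=
    (fix_or_compl aMo_ok ha).resolve_right fun e => by
      have := congrArg Finset.card e
      rw [Finset.card_smul_finset, card_compl, sets_ok.2] at this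
      exact absurd this (by decide)
  obtain ⟨e, he, hv, hau, hp⟩ := kAll_complete a.1.2 hD hO
  obtain ⟨m, hm, hmc, hme⟩ := half_span a.2.2
  have hok : okMo (m, e) = true := by
    rw [okMo, hv, hau, inCode_iff.2 hmc]; rfl
  have hx : piH (mono a) = moEl (m, e) := by
    rw [moEl_eq hok, piH_mono_iff]
    exact ⟨Subtype.ext hp.symm, hme.imp id id⟩
  rw [hx] at hu ha htr hsq hax ⊢
  obtain ⟨k, hk, hke⟩ := List.getElem_of_mem he
  have hpk := perms_all (k := k) (by rw [← kall_len]; exact hk)
  rw [List.getD_eq_getElem _ _ hk, hke, permOK, forceElt, force_eq, force_eq, force_eq, withImgs_eq] at hpk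
  have hs := sqB_of hok hsq
  rw [sqB, Bool.and_eq_true] at hs
  rw [show allBelow (fun k => Nat.beq (get 5 e.1 (get 5 e.1 k)) k) 24 = true from hs.1, Bool.not_true,
    Bool.false_or] at hpk
  have hf := spanAll_spec _ e halfBasis 0 0 hpk m hm
  have h1 : Nat.beq (m ^^^ imgMask e m) 0 = true := hs.2
  have h2 : trZero (fixMask e idElt) (pMask (m, e) oneMo) = true :=
    trZero_of hok oneMo_ok (by rwa [moEl_one, mul_one])
  have h3 : aTest aMo (m, e) = true := by
    by_contra r
    exact not_trEight aMo_ok hok (Bool.eq_false_iff.2 r) hax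
  simp only [Nat.zero_xor, h1, h2, h3, Bool.not_true, Bool.false_or, inCand, List.any_eq_true] at hf
  obtain ⟨p, hpm, hf⟩ := hf
  simp only [Bool.and_eq_true, List.any_eq_true, Nat.beq_eq] at hf
  obtain ⟨⟨hp1, hp2⟩, m', hm', rfl⟩ := hf
  have hmem : (m', e) ∈ candFlat candList := by
    rw [candFlat]
    exact List.mem_flatMap.2 ⟨p, hpm, List.mem_map.2 ⟨m', hm', Prod.ext rfl (Prod.ext hp1 hp2)⟩⟩
  obtain ⟨j, hj, hje⟩ := List.getElem_of_mem hmem
  exact ⟨j, hj, by rw [candAt, List.getD_eq_getElem _ _ hj, hje]⟩

end Cfsg.Agent.Co1Endgame
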