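import Cfsg.Agent.Lib.Co1Recog.Endgame.Defs
import Cfsg.Agent.Lib.Co1Recog.Endgame.Model
import Cfsg.Agent.Lib.Golay.Dual

/-!
An element commuting up to sign with a dodecad sign change fixes the standard cross.
-/

set_option autoImplicit false
set_option maxRecDepth 20000

namespace Cfsg.Agent.Co1Endgame

open Cfsg Cfsg.Agent.Golay Cfsg.Agent.Leech Finset
open Cfsg.Agent.E8Cent (piH piH_eq)
open scoped Pointwise

/-- The dodecad. -/
noncomputable def dodec : Finset GolayPt := maskSet sqMask

theorem dodec_mem : dodec ∈ dodecads := by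
  have := squareDodecad_mem
  rwa [squareDodecad_eq] at this

/-- Supported in the dodecad or in its complement. -/
def Half (v : GolayPt → ℤ) : Prop := (∀ i ∈ dodec, v i = 0) ∨ ∀ i, i ∉ dodec → v i = 0

theorem Half.subset {v : GolayPt → ℤ} (h : Half v) :
    ∃ H : Finset GolayPt, (H = dodec ∨ H = dodecᶜ) ∧ ∀ i, v i ≠ 0 → i ∈ H := by
  rcases h with h | h
  · exact ⟨_, Or.inr rfl, fun i hi => mem_compl.2 fun hd => hi (h i hd)⟩
  · exact ⟨_, Or.inl rfl, fun i hi => by by_contra hd; exact hi (h i hd)⟩

theorem half_props {H : Finset GolayPt} (h : H = dodec ∨ H = dodecᶜ) : H.card = 12 ∧ H ∈ dodecads := by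
  rcases h with rfl | rfl
  · exact ⟨card_dodecad dodec_mem, dodec_mem⟩
  · exact ⟨card_dodecad (compl_mem_dodecads dodec_mem), compl_mem_dodecads dodec_mem⟩

theorem octad_not_subset {o H : Finset GolayPt} (ho : o ∈ octads) (hH : H ∈ dodecads) : ¬ o ⊆ H := fun hs => by
  obtain ⟨m, hm, rfl⟩ := mem_octads.1 ho
  obtain ⟨k, hk, rfl⟩ := mem_dodecads.1 hH
  have hx := spanList_xor _ m (mem_octadList.1 hm).1 k (mem_dodecadList.1 hk).1
  have hset : maskSet (m ^^^ k) = maskSet k \ maskSet m := by
    ext p
    have := @hs p
    simp only [mem_maskSet, mem_sdiff, Nat.testBit_xor] at this ⊢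
    rcases Bool.eq_false_or_eq_true (m.testBit (idx p)) with a | a <;>
      rcases Bool.eq_false_or_eq_true (k.testBit (idx p)) with b | b <;> simp_all
  have h4 : (maskSet (m ^^^ k)).card = 4 := by
    rw [hset, card_sdiff_of_subset hs, card_dodecad hH, card_octad ho]
  have := weight_cases hx
  rw [← card_maskSet, h4] at this
  omega

theorem dodec_word : sgn (ofMask sqMask) = fun i => if i ∈ dodec then (-1 : ℤ) else 1 := by
  funext i
  simp only [sgn, ofMask, dodec, mem_maskSet]
  rcases Bool.eq_false_or_eq_true (sqMask.testBit (idx i)) with r | r <;> simp [r]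

theorem uMo_ok : okMo uMo = true := by decide +kernel

theorem idElt_perm : permOf idElt = 1 := by
  have hv : Cfsg.Agent.PermCert.validElt 5 24 idElt = true := by decide +kernel
  have hk : Cfsg.Agent.PermCert.allBelow
      (fun k => Nat.beq (Cfsg.Agent.PermCert.get 5 idElt.1 k) k) 24 = true := by decide +kernel
  refine Equiv.ext fun p => idx_injective ?_
  rw [idx_permOf hv, Equiv.Perm.one_apply]
  exact Nat.eq_of_beq_eq_true (Cfsg.Agent.PermCert.allBelow_spec _ _ hk _ (idx_lt p))

theorem u_smul (v : leechLattice) (i : GolayPt) :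
    ((mono (monoP uMo uMo_ok) • v : leechLattice) : GolayPt → ℤ) i =
      (if i ∈ dodec then (-1 : ℤ) else 1) * (v : GolayPt → ℤ) i := by
  rw [mono_smul]
  show sgn (ofMask sqMask) i * (v : GolayPt → ℤ) ((permOf idElt).symm i) = _
  rw [idElt_perm, dodec_word]
  rfl

/-- A marker with all vectors of its cross supported in halves does not exist. -/
theorem no_type {x : leechLattice} (hx : ip x x = 8) {t : XType} (ht : t.prop (x : GolayPt → ℤ))
    (hall : ∀ y ∈ xCross x, Half (y : GolayPt → ℤ)) : False := by
  obtain ⟨H, hHcase, hsub⟩ := (hall x (self_mem_xCross hx)).subset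
  obtain ⟨hH, hHd⟩ := half_props hHcase
  cases t
  · obtain ⟨T, hT, hv⟩ := shapeB hx ht
    have hTH : T ⊆ H := fun i hi => hsub i fun e => by
      have := hv i
      rw [if_pos hi, e] at this
      norm_num at this
    obtain ⟨p, hpH, hpT⟩ : ∃ p, p ∈ H ∧ p ∉ T := by
      by_contra hno
      push Not at hno
      have := card_le_card (show H ⊆ T from fun i hi => hno i hi)
      omega
    obtain ⟨o, ⟨ho, hso⟩, -⟩ := isSteinerSystem_octads.2 (insert p T) (by rw [card_insert_of_notMem hpT, hT])
    obtain ⟨m, hm, rfl⟩ := mem_octads.1 ho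
    have hTo : T ⊆ maskSet m := fun i hi => hso (mem_insert_of_mem hi)
    obtain ⟨c, hc, hcv⟩ := exists_code_eq_on_small T (by omega)
      (fun i => if (x : GolayPt → ℤ) i = 4 then 0 else 1)
    let b : GolayPt → ℤ := fun i => if i ∈ maskSet m then 2 else 0
    have hb : b ∈ leechLattice := by
      refine mem_leech.2 ⟨0, fun i => ?_, ?_, ?_⟩
      · simp only [b]; split_ifs <;> norm_num
      · simp only [b]
        rw [sum_ite_mem, univ_inter, sum_const, card_octad ho]
        norm_num
      · have he : hword 0 b = ofMask m := by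
          funext i
          simp only [hword, b, sub_zero, ofMask, mem_maskSet]
          rcases Bool.eq_false_or_eq_true (m.testBit (idx i)) with r | r <;> simp [r]
        rw [he]
        exact ofMask_mem_golayCode (inCode_iff.2 (mem_octadList.1 hm).1)
    let w : leechLattice := mono (1, ⟨c, hc⟩) • (⟨b, hb⟩ : leechLattice)
    have hw : ∀ i, (w : GolayPt → ℤ) i = sgn c i * b i := fun i => by
      simp only [w]; rw [mono_smul]; rfl
    have hy : ∀ i, (x : GolayPt → ℤ) i - 2 * (w : GolayPt → ℤ) i =
        if i ∈ maskSet m ∧ i ∉ T then (if c i = 0 then -4 else 4) else 0 := by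
      intro i
      rw [hw, sgn]
      by_cases hiT : i ∈ T
      · have hcv' := hcv i hiT
        have hsq : (x : GolayPt → ℤ) i ^ 2 = 4 ^ 2 := by rw [hv i, if_pos hiT]; norm_num
        rw [if_neg (show ¬ (i ∈ maskSet m ∧ i ∉ T) from fun h => h.2 hiT)]
        simp only [b, if_pos (hTo hiT)]
        rcases sq_eq_sq_iff_eq_or_eq_neg.1 hsq with r | r <;> rw [r] at hcv' ⊢ <;> simp [hcv']
      · have h0 : (x : GolayPt → ℤ) i = 0 := sq_eq_pos (by rw [hv i, if_neg hiT])
        rw [h0]
        by_cases him : i ∈ maskSet m
        · rw [if_pos (show i ∈ maskSet m ∧ i ∉ T from ⟨him, hiT⟩)]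
          simp only [b, if_pos him]
          split_ifs <;> norm_num
        · rw [if_neg (show ¬ (i ∈ maskSet m ∧ i ∉ T) from fun h => him h.1)]
          simp only [b, if_neg him]
          split_ifs <;> norm_num
    set y : leechLattice := x - (2 : ℕ) • w with hydef
    have hyv : ∀ i, (y : GolayPt → ℤ) i =
        if i ∈ maskSet m ∧ i ∉ T then (if c i = 0 then -4 else 4) else 0 := fun i => by
      rw [← hy i]
      simp [hydef]
    have hcard : (maskSet m \ T).card = 4 := by rw [card_sdiff_of_subset hTo, card_octad ho, hT]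
    have hy8 : ip y y = 8 := by
      refine (ip_self_iff (n := 8)).2 ?_
      show ∑ i, (y : GolayPt → ℤ) i ^ 2 = _
      have hsum : ∀ i, (y : GolayPt → ℤ) i ^ 2 = if i ∈ maskSet m \ T then 16 else 0 := fun i => by
        rw [hyv]
        simp only [mem_sdiff]
        split_ifs <;> norm_num
      rw [sum_congr rfl fun i _ => hsum i, sum_ite_mem, univ_inter, sum_const, hcard]
      norm_num
    have hyx : y ∈ xCross x := ⟨hy8, w, by rw [hydef]; abel⟩
    have hne : ∀ i ∈ maskSet m, i ∉ T → (y : GolayPt → ℤ) i ≠ 0 := fun i hi hiT => by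
      rw [hyv, if_pos ⟨hi, hiT⟩]; split_ifs <;> norm_num
    have hpo : p ∈ maskSet m := hso (mem_insert_self _ _)
    obtain ⟨H', hH'case, hsub'⟩ := (hall y hyx).subset
    have hpH' : p ∈ H' := hsub' p (hne p hpo hpT)
    have heq : H' = H := by
      rcases hHcase with rfl | rfl <;> rcases hH'case with rfl | rfl
      · rfl
      · exact absurd hpH (mem_compl.1 hpH')
      · exact absurd hpH' (mem_compl.1 hpH)
      · rfl
    refine octad_not_subset ho hHd fun i hi => ?_
    by_cases hiT : i ∈ T
    · exact hTH hiT
    · exact heq ▸ hsub' i (hne i hi hiT)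
  · obtain ⟨o, ho, p, hp, hv⟩ := shapeC6 hx ht
    exact octad_not_subset ho hHd fun i hi => hsub i fun e => by
      have := hv i
      rw [e] at this
      split_ifs at this <;> norm_num at this
  · obtain ⟨o, q, ho, -, -, hv⟩ := shape24 hx ht.1 (w := 8) (k := 2) ht.2 (by norm_num)
    exact octad_not_subset ho hHd fun i hi => hsub i fun e => by
      have := hv i
      rw [if_pos hi, e] at this
      norm_num at this
  · obtain ⟨o, q, ho, hq, hd, hv⟩ := shape24 hx ht.1 (w := 12) (k := 1) ht.2 (by norm_num)
    have hs : o ∪ q ⊆ H := fun i hi => hsub i fun e => by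
      have := hv i
      rw [e] at this
      rcases mem_union.1 hi with h | h
      · rw [if_pos h] at this; norm_num at this
      · rw [if_neg (disjoint_left.1 hd h), if_pos h] at this; norm_num at this
    have := card_le_card hs
    rw [card_union_of_disjoint hd.symm, show o.card = 12 from ho.2, hq] at this
    omega
  · obtain ⟨hL, -⟩ := shapeG hx ht
    have : (univ : Finset GolayPt) ⊆ H := fun i _ => hsub i fun e => by
      have := hL.1 i
      rw [e] at this
      norm_num at this
    have := card_le_card this
    rw [hH] at this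
    exact absurd this (by decide)

/-- **The centraliser of a dodecad sign change is monomial.** -/
theorem cent_dodecad {x : Spor.Co1} (h : x * moEl uMo = moEl uMo * x) : ∃ a, piH (mono a) = x := by
  obtain ⟨g, rfl⟩ := QuotientGroup.mk'_surjective (Subgroup.center Co0) x
  set t := mono (monoP uMo uMo_ok) with ht
  have hhalf : ∀ j, Half ((g • axis j : leechLattice) : GolayPt → ℤ) := by
    intro j
    have e : g * t = t * g ∨ g * t = t * g * negCo0 := by
      have h' : piH (t * g) = piH (g * t) := by
        rw [map_mul, map_mul, ← moEl_eq uMo_ok]; exact h.symm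
      exact piH_eq.1 h'
    have htj : t • axis j = axis j ∨ t • axis j = -axis j := by
      have key : ∀ i, ((t • axis j : leechLattice) : GolayPt → ℤ) i =
          (if j ∈ dodec then (-1 : ℤ) else 1) * (axis j : GolayPt → ℤ) i := fun i => by
        rw [u_smul, coe_axis, Pi.single_apply]
        by_cases r : i = j
        · subst r; rfl
        · rw [if_neg r, mul_zero, mul_zero]
      by_cases r : j ∈ dodec
      · exact Or.inr (Subtype.ext (funext fun i => by rw [key, if_pos r]; simp))
      · exact Or.inl (Subtype.ext (funext fun i => by rw [key, if_neg r, one_mul]))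
    have hv : t • g • axis j = g • axis j ∨ t • g • axis j = -(g • axis j) := by
      rcases e with e | e <;> rcases htj with r | r <;>
        have e' := congrArg (fun k : Co0 => k • axis j) e <;>
        simp only [mul_smul, negCo0_smul, co0_neg, r] at e'
      · exact Or.inl e'.symm
      · exact Or.inr e'.symm
      · exact Or.inr (neg_eq_iff_eq_neg.1 e'.symm)
      · exact Or.inl (neg_inj.1 e'.symm)
    rcases hv with r | r
    · left
      intro i hi
      have := congrFun (congrArg Subtype.val r) i
      rw [u_smul, if_pos hi] at this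
      omega
    · right
      intro i hi
      have := congrFun (congrArg Subtype.val r) i
      rw [u_smul, if_neg hi, AddSubgroup.coe_neg, Pi.neg_apply] at this
      omega
  have h8 : ip (g • axis none) (g • axis none) = 8 := by rw [co0_ip, ip_axis_self]
  rcases cross_cases h8 with e | ⟨t', ht'⟩
  · obtain ⟨a, ha⟩ := fixesStd_iff.1 (mem_crossStab.1 (MulAction.mem_stabilizer_iff.2
      (show g • xCross (axis none) = xCross (axis none) by rw [smul_xCross, e]; rfl)))
    exact ⟨a, by rw [ha]; rfl⟩
  · exfalso
    rw [crossOrbit_eq_image] at ht'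
    obtain ⟨v, ⟨hv8, hvp⟩, hve⟩ := ht'
    refine no_type hv8 hvp fun y hy => ?_
    rw [hve, ← smul_xCross] at hy
    obtain ⟨w, hw, rfl⟩ := hy
    obtain ⟨j, s, hs, rfl⟩ := mem_stdCross_iff.1 (mem_xCross_axis.1 hw)
    rcases hs with rfl | rfl
    · simpa using hhalf j
    · show Half ((g • ((-1 : ℤ) • axis j) : leechLattice) : GolayPt → ℤ)
      rw [neg_one_smul, co0_neg]
      rcases hhalf j with r | r
      · exact Or.inl fun i hi => by simp [r i hi]
      · exact Or.inr fun i hi => by simp [r i hi]

end Cfsg.Agent.Co1Endgame
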