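import Cfsg.Agent.Lib.Co1Recog.Endgame.Defs

/-!
Kernel checks: the nodes of the tree, in ranges.
-/

set_option autoImplicit false
set_option maxRecDepth 100000
set_option Elab.async false
set_option maxHeartbeats 0

namespace Cfsg.Agent.Co1Endgame

open Cfsg.Agent.Golay Cfsg.Agent.Golay.Cert Cfsg.Agent.PermCert

theorem nodes_ok0 : nodesOK 0 8 = true := by decide +kernel

theorem node_root : nodeList.getD 0 [] = [] ∧ nodeList.length = 128 := by decide +kernel

end Cfsg.Agent.Co1Endgame
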