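import Cfsg.Agent.Lib.Co1Recog.Endgame.Cand
import Cfsg.Agent.S5378

/-!
The three classes of involutions of Co₁: representatives, the class of an involution read off from its trace,
and products of commuting involutions.
-/

set_option autoImplicit false
set_option maxRecDepth 20000

namespace Cfsg.Agent.Co1Endgame

open Cfsg Cfsg.Agent.Golay Cfsg.Agent.Leech Cfsg.Agent.PermCert Finset
open Cfsg.Agent.E8Cent (piH piH_eq z1 t0)

/-- The octad sign change whose product with the dodecad is an octad. -/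
def a2Mo : Mo := (5279, idElt)

theorem a2_facts : okMo a2Mo = true ∧ aTest a2Mo oneMo = true ∧ aTest a2Mo uMo = true ∧
    commB a2Mo uMo = true ∧ commB uMo aMo = true ∧ prodEqB a2Mo a2Mo oneMo oneMo = true ∧
    prodEqB aMo aMo oneMo oneMo = true ∧ prodEqB uMo uMo oneMo oneMo = true ∧
    prodEqB bMo bMo oneMo oneMo = true ∧ zMo = (E8Cent.xMask, idElt) := by
  refine ⟨?_, ?_, ?_, ?_, ?_, ?_, ?_, ?_, ?_, rfl⟩ <;> decide +kernel

theorem aTest_true {e f : Mo} (he : okMo e = true) (hf : okMo f = true) (h : aTest e f = true) :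
    HasTr (moEl e * moEl f) 64 := by
  have := hasTr_prod he hf
  simp only [aTest, trEight, Bool.or_eq_true, Nat.beq_eq] at h
  convert this using 1
  rcases h with h | h
  · rw [show (popCount (fixMask e.2 f.2) 24 : ℤ) = 2 * popCount (pMask e f &&& fixMask e.2 f.2) 24 + 8 by
      exact_mod_cast h]
    norm_num
  · rw [show (2 * popCount (pMask e f &&& fixMask e.2 f.2) 24 : ℤ) = popCount (fixMask e.2 f.2) 24 + 8 by
      exact_mod_cast h]
    norm_num

theorem hasTr_zero {e : Mo} (he : okMo e = true) (h : trZero (fixMask e.2 idElt) (pMask e oneMo) = true) :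
    HasTr (moEl e) 0 := by
  have := hasTr_prod he oneMo_ok
  rw [moEl_one, mul_one] at this
  rw [trZero, Nat.beq_eq] at h
  convert this using 1
  rw [show oneMo.2 = idElt from rfl, h]
  push_cast
  norm_num

theorem hasTr_one : HasTr (1 : Spor.Co1) 192 := by
  have := hasTr_prod oneMo_ok oneMo_ok
  rw [moEl_one, mul_one] at this
  have e : popCount (fixMask idElt idElt) 24 = 24 ∧ popCount (pMask oneMo oneMo &&& fixMask idElt idElt) 24 = 0 := by
    decide +kernel
  rw [show oneMo.2 = idElt from rfl, e.1, e.2] at this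
  norm_num at this
  exact this

theorem zMo_ok : okMo zMo = true := basic_ok.2.2.1

theorem bMo_ok : okMo bMo = true := basic_ok.2.2.2.1

theorem z1_eq : z1 = moEl zMo := by
  rw [moEl_eq zMo_ok, z1, t0, Leech.diag]
  refine congrArg piH (congrArg mono (Prod.ext (Subtype.ext ?_) (Subtype.ext ?_)))
  · exact idElt_perm.symm
  · rfl

theorem basic_parts : Nat.beq (pMask bMo bMo) full = true ∧
    trZero (fixMask bMo.2 idElt) (pMask bMo oneMo) = true ∧
    trZero (fixMask idElt idElt) (pMask uMo oneMo) = true ∧ aTest zMo oneMo = true ∧ aTest aMo oneMo = true := by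
  have h := basic_ok.2.2.2.2.2.2
  simp only [Bool.and_eq_true] at h
  exact ⟨h.1.1.1.1.1, h.1.1.1.2, h.1.1.2, h.1.2, h.2⟩

theorem tr_of_aTest {e : Mo} (he : okMo e = true) (h : aTest e oneMo = true) : HasTr (moEl e) 64 := by
  have := aTest_true he oneMo_ok h
  rwa [moEl_one, mul_one] at this

theorem tr_z : HasTr z1 64 := z1_eq ▸ tr_of_aTest zMo_ok basic_parts.2.2.2.1

theorem tr_u : HasTr (moEl uMo) 0 := hasTr_zero uMo_ok basic_parts.2.2.1

theorem tr_b : HasTr (moEl bMo) 0 := hasTr_zero bMo_ok basic_parts.2.1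

theorem not_sqOne_b : ¬ SqOne (moEl bMo) := fun h => by
  have := sqB_of bMo_ok h
  rw [sqB, Bool.and_eq_true, Nat.beq_eq, Nat.eq_of_beq_eq_true basic_parts.1] at this
  exact absurd this.2 (by decide)

theorem sq_of {e : Mo} (he : okMo e = true) (h : prodEqB e e oneMo oneMo = true) : moEl e * moEl e = 1 := by
  rw [(prodEq_iff he he oneMo_ok oneMo_ok).1 h, moEl_one, mul_one]

theorem ne_one_of_tr {x : Spor.Co1} {n : ℤ} (h : HasTr x n) (hn : n ≠ 192) : x ≠ 1 := fun e =>
  hn (h.unique (e ▸ hasTr_one))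

theorem order_of {x : Spor.Co1} {n : ℤ} (h : HasTr x n) (hn : n ≠ 192) (h2 : x * x = 1) : orderOf x = 2 :=
  orderOf_eq_prime (by rw [pow_two, h2]) (ne_one_of_tr h hn)

theorem u_sq : moEl uMo * moEl uMo = 1 := sq_of uMo_ok a2_facts.2.2.2.2.2.2.2.1

theorem b_sq : moEl bMo * moEl bMo = 1 := sq_of bMo_ok a2_facts.2.2.2.2.2.2.2.2.1

theorem sqOne_z : SqOne z1 := sqOne_mk E8Cent.t0_sq

theorem sqOne_u : SqOne (moEl uMo) := by
  rw [moEl_eq uMo_ok]
  refine sqOne_mk ?_
  rw [mono_mul, ← diag_zero, Leech.diag]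
  refine congrArg mono (Prod.ext (Subtype.ext ?_) (Subtype.ext ?_))
  · show permOf idElt * permOf idElt = 1
    rw [idElt_perm, one_mul]
  · show (ofMask uMo.1 + fun i => ofMask uMo.1 ((permOf idElt).symm i)) = 0
    rw [idElt_perm]
    exact funext fun i => CharTwo.add_self_eq_zero _

theorem trichotomy {x : Spor.Co1} (hx : orderOf x = 2) :
    IsConj x z1 ∨ IsConj x (moEl uMo) ∨ IsConj x (moEl bMo) := by
  obtain ⟨z, hz, Q, hQn, hF, hQ, hcard, ⟨e⟩, hnwc⟩ := E8Cent.co1_main
  obtain ⟨p, q, r, -, -, -, -, -, -, hall⟩ :=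
    Cfsg.Agent.S5378.result (G := Spor.Co1) z hz Q hF hQ hcard e hnwc
  have hzu : ¬ IsConj z1 (moEl uMo) := fun h => by
    exact absurd ((tr_z.conj h).unique tr_u) (by norm_num)
  have hzb : ¬ IsConj z1 (moEl bMo) := fun h => by
    exact absurd ((tr_z.conj h).unique tr_b) (by norm_num)
  have hub : ¬ IsConj (moEl uMo) (moEl bMo) := fun h => not_sqOne_b (sqOne_u.conj h)
  have ez := hall _ E8Cent.z1_order
  have eu := hall _ (order_of tr_u (by norm_num) u_sq)
  have eb := hall _ (order_of tr_b (by norm_num) b_sq)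
  rcases hall _ hx with a | a | a <;> rcases ez with b | b | b <;> rcases eu with c | c | c <;>
    rcases eb with d | d | d <;>
    first
      | exact (hzu (b.trans c.symm)).elim
      | exact (hzb (b.trans d.symm)).elim
      | exact (hub (c.trans d.symm)).elim
      | exact Or.inl (a.trans b.symm)
      | exact Or.inr (Or.inl (a.trans c.symm))
      | exact Or.inr (Or.inr (a.trans d.symm))

theorem conj_z_of_tr {x : Spor.Co1} (h : HasTr x 64) (hx : x * x = 1) : IsConj x z1 := by
  rcases trichotomy (order_of h (by norm_num) hx) with r | r | r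
  · exact r
  · exact absurd ((h.conj r).unique tr_u) (by norm_num)
  · exact absurd ((h.conj r).unique tr_b) (by norm_num)

theorem not_conj_b_mul {y : Spor.Co1} (hy : IsConj y z1 ∨ IsConj y (moEl uMo)) (hc : z1 * y = y * z1) :
    ¬ IsConj (z1 * y) (moEl bMo) := fun hb => by
  have hs : SqOne y := hy.elim (fun h => sqOne_z.conj h.symm) fun h => sqOne_u.conj h.symm
  obtain ⟨g, rfl⟩ := QuotientGroup.mk'_surjective (Subgroup.center Co0) y
  have hg : g * g = 1 := hs g rfl
  have hcomm : t0 * g = g * t0 := by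
    have h' : piH (t0 * g) = piH (g * t0) := by rw [map_mul, map_mul]; exact hc
    rcases piH_eq.1 h' with r | r
    · exact r.symm
    · exact (E8Cent.anticomm_false r).elim
  refine not_sqOne_b (SqOne.conj (sqOne_mk (g := t0 * g) ?_) ?_)
  · rw [mul_assoc, ← mul_assoc g, ← hcomm, mul_assoc t0 g g, hg, mul_one, E8Cent.t0_sq]
  · rw [map_mul]; exact hb

end Cfsg.Agent.Co1Endgame
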