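import Cfsg.Agent.Lib.Co1Recog.Endgame.Tests

/-!
The Boolean checks of the last step of the recognition of Co₁.
-/

set_option autoImplicit false
set_option maxRecDepth 100000

namespace Cfsg.Agent.Co1Endgame

open Cfsg.Agent.Golay Cfsg.Agent.PermCert

/-- The dodecad sign change. -/
def uMo : Mo := (sqMask, idElt)

/-- The octad sign change. -/
def aMo : Mo := (oct0, idElt)

/-- The base octad involution. -/
def zMo : Mo := (E8Cent.xMask, idElt)

/-- Evaluate a number before handing it on. -/
def force {α : Type} (n : ℕ) (k : ℕ → α) : α :=
  match n with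
  | 0 => k 0
  | m + 1 => k (m + 1)

/-- Evaluate a permutation before handing it on. -/
def forceElt {α : Type} (e : Elt) (k : Elt → α) : α := force e.1 fun a => force e.2 fun b => k (a, b)

/-- Evaluate a code before handing it on. -/
def forceMo {α : Type} (e : Mo) (k : Mo → α) : α := force e.1 fun m => forceElt e.2 fun p => k (m, p)

/-- Evaluate a list of codes before handing it on. -/
def forceList : List Mo → (List Mo → Bool) → Bool
  | [], k => k []
  | e :: l, k => forceMo e fun e' => forceList l fun l' => k (e' :: l')

/-- The image of a mask, at once if the permutation is the identity. -/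
def imgF (e : Elt) (m : ℕ) : ℕ := bif Nat.beq e.1 idElt.1 && Nat.beq e.2 idElt.2 then m else imgMask e m

/-- Codes with a number computed from each, evaluated. -/
def withVals (f : Mo → ℕ) : List Mo → (List (Mo × ℕ) → Bool) → Bool
  | [], k => k []
  | e :: l, k => force (f e) fun v => withVals f l fun r => k ((e, v) :: r)

/-- Composition of coded permutations. -/
def mulE (e f : Elt) : Elt :=
  (pack 5 (fun k => get 5 e.1 (get 5 f.1 k)) 24, pack 5 (fun k => get 5 f.2 (get 5 e.2 k)) 24)

/-- Product of codes. -/
def mulMo (e f : Mo) : Mo :=
  (bif (pMask e f).testBit 23 then pMask e f ^^^ full else pMask e f, mulE e.2 f.2)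

/-- Products of subsets of the generators. -/
def spanMo : List Mo → List Mo
  | [] => []
  | g :: gs => spanMo gs ++ g :: (spanMo gs).map (mulMo g)

/-- The products are certified. -/
def spanChk : List Mo → Bool
  | [] => true
  | g :: gs => spanChk gs && okMo g &&
      forceList (spanMo gs) fun l => l.all fun x => forceMo (mulMo g x) fun p => okMo p && prodEqB p oneMo g x

/-- All candidates. -/
def candFlat (l : List (Elt × List ℕ)) : List Mo := l.flatMap fun p => p.2.map fun m => (m, p.1)

/-- The candidate with a given index. -/
def candAt (k : ℕ) : Mo := (candFlat candList).getD k oneMo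

/-- Every candidate with one permutation is a child or excluded. -/
def scanMasks (G E : List (Mo × ℕ)) (kids : ℕ) : ℕ → List ℕ → Bool
  | _, [] => true
  | off, m :: ms =>
    (!(G.all fun p => force (p.1.1 ^^^ imgF p.1.2 m) fun c => eqS c (m ^^^ p.2)) ||
        E.any (fun p => force (p.1.1 ^^^ imgF p.1.2 m) fun c => trEight p.2 c) ||
        kids.testBit off) && force (off + 1) fun o => scanMasks G E kids o ms

/-- Every candidate is a child or excluded. -/
def scan (gs sp : List Mo) (kids : ℕ) : ℕ → List (Elt × List ℕ) → Bool
  | _, [] => true
  | off, (σ, ms) :: rest =>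
    (gs.any (fun g => !samePP g.2 σ σ g.2) ||
        withVals (fun g => imgMask σ g.1) gs fun G => withVals (fun e => fixMask e.2 σ) sp fun E =>
          scanMasks G E kids off ms) && force (off + ms.length) fun o => scan gs sp kids o rest

/-- Conjugation carries one list to the other. -/
def conjAll (g : Mo) : List Mo → List Mo → Bool
  | [], [] => true
  | x :: xs, y :: ys => prodEqB g x y g && conjAll g xs ys
  | _, _ => false

/-- The set of the indices of the children, as a mask. -/
def kidMask : List (ℕ × Mo × ℕ) → ℕ
  | [] => 0
  | k :: l => 2 ^ k.1 ||| kidMask l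

/-- A test of each child with its candidate, the children sorted by index. -/
def kidWalk (P : ℕ × Mo × ℕ → Mo → Bool) : ℕ → List Mo → List (ℕ × Mo × ℕ) → Bool
  | _, [], ks => ks.isEmpty
  | off, c :: cs, ks =>
    match ks with
    | [] => true
    | k :: ks' => force (off + 1) fun o =>
      bif Nat.beq k.1 off then forceMo c (P k) && kidWalk P o cs ks' else kidWalk P o cs (k :: ks')

/-- One node. -/
def nodeOK (n : ℕ) : Bool :=
  let gs := nodeList.getD n []
  let kids := kidList.getD n []
  spanChk (uMo :: gs) && gs.all (fun g => commB g aMo) &&
    forceList (spanMo (uMo :: gs)) fun sp =>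
      sp.all (fun e => !aTest aMo e && prodEqB e e oneMo oneMo) &&
        force (kidMask kids) (fun K => scan gs sp K 0 candList) &&
        kidWalk (fun k c => Nat.blt n k.2.2 && Nat.blt k.2.2 nodeList.length && okMo k.2.1 && commB k.2.1 uMo &&
          conjAll k.2.1 (gs ++ [c]) (nodeList.getD k.2.2 [])) 0 (candFlat candList) kids

/-- A range of nodes. -/
def nodesOK (a b : ℕ) : Bool := allBelow (fun i => nodeOK (a + i)) b

/-- The permutations fixing the octad and the partition into two dodecads. -/
def kAll : List Elt := stabList ++ stabList.map (mulE swapElt)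

/-- The basis words with their images. -/
def withImgs (e : Elt) : List ℕ → (List (ℕ × ℕ) → Bool) → Bool
  | [], k => k []
  | b :: l, k => force (imgMask e b) fun i => withImgs e l fun ps => k ((b, i) :: ps)

/-- A test on all sums of words with their images. -/
def spanAll (f : ℕ → ℕ → Bool) : List (ℕ × ℕ) → ℕ → ℕ → Bool
  | [], m, i => f m i
  | (b, ib) :: l, m, i =>
    spanAll f l m i && force (m ^^^ b) fun m' => force (i ^^^ ib) fun i' => spanAll f l m' i'

/-- The basis of the words avoiding the last point. -/
def halfBasis : List ℕ := (gBasis.map fun v => v.2).tail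

/-- A candidate in the list with the given element. -/
def inCand (e : Mo) : Bool :=
  candList.any fun p => Nat.beq p.1.1 e.2.1 && Nat.beq p.1.2 e.2.2 && p.2.any fun m => Nat.beq m e.1

/-- The candidates are complete for one permutation. -/
def permOK (e0 : Elt) : Bool :=
  forceElt e0 fun e => !allBelow (fun k => Nat.beq (get 5 e.1 (get 5 e.1 k)) k) 24 ||
    force (fixMask e idElt) fun F => withImgs e halfBasis fun ps =>
      spanAll (fun m i => !Nat.beq (m ^^^ i) 0 || !trZero F (pMask (m, e) oneMo) || !aTest aMo (m, e) ||
        inCand (m, e)) ps 0 0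

/-- A range of permutations. -/
def permsOK (a b : ℕ) : Bool := allBelow (fun i => permOK (kAll.getD (a + i) idElt)) b

/-- Successive values increase. -/
def incr (f : ℕ → ℕ) (n : ℕ) : Bool := allBelow (fun i => Nat.blt (f i) (f (i + 1))) n

end Cfsg.Agent.Co1Endgame
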