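import Cfsg.Agent.Lib.Co1Recog.Endgame.Tree

/-!
A finite group with three classes of involutions, containing Co₁ and with the centraliser of the octad
involution inside it, is Co₁.
-/

set_option autoImplicit false
set_option maxRecDepth 20000
set_option linter.unusedSectionVars false

namespace Cfsg.Agent.Co1Endgame

open Cfsg
open Cfsg.Agent.E8Cent (z1)

attribute [local irreducible] nodeList kidList candList stabList transList

universe u

variable {G : Type u} [Group G] [Finite G] {phi : Spor.Co1 →* G} (S : Setting phi)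
include S

/-- A conjugate of the octad involution commuting with the dodecad involution lies in Co₁. -/
theorem Setting.z_cent_u {x : G} (hx : IsConj x (phi z1)) (hc : Commute x (phi (moEl uMo))) : x ∈ phi.range := by
  by_contra hout
  have h2 := a2_facts
  set a := moEl a2Mo with ha
  have ha2 : a * a = 1 := sq_of h2.1 h2.2.2.2.2.2.1
  have haz : IsConj (phi a) (phi z1) := phi.map_isConj (conj_z_of_tr (tr_of_aTest h2.1 h2.2.1) ha2)
  have hau : Commute (phi a) (phi (moEl uMo)) := S.comm_moEl h2.1 uMo_ok h2.2.2.2.1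
  have haup : IsConj (phi a * phi (moEl uMo)) (phi z1) := by
    rw [← map_mul]
    refine phi.map_isConj (conj_z_of_tr (aTest_true h2.1 uMo_ok h2.2.2.1) ?_)
    rw [mul_assoc, ← mul_assoc (moEl uMo), ← S.commute_of hau, mul_assoc, u_sq, mul_one, ha2]
  have hA2 : phi a * phi a = 1 := by rw [← map_mul, ha2, map_one]
  have hx2 : x * x = 1 := S.sq_conj hx (by rw [z1, ← map_mul, E8Cent.t0_sq, map_one])
  rcases dihedral hA2 hx2 with ⟨c, hcc, hcx⟩ | ⟨i, hi2, hi1, hiA, hix, hcent, hAi, hxi⟩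
  · refine hout (S.core_u hx hc (IsConj.trans (isConj_iff.2 ⟨c⁻¹, ?_⟩) haup))
    have hcu : Commute (phi (moEl uMo)) c := hcc _ hau.symm hc.symm
    rw [← hcx]
    calc c⁻¹ * (c * phi a * c⁻¹ * phi (moEl uMo)) * c⁻¹⁻¹
        = phi a * (c⁻¹ * phi (moEl uMo) * c) := by group
      _ = _ := by rw [mul_assoc c⁻¹, hcu.eq, inv_mul_cancel_left]
  · obtain ⟨i0, rfl⟩ := S.cent haz ⟨_, rfl⟩ hiA
    rcases S.tri _ (orderOf_two hi2 hi1) with r | r | r
    · exact hout (S.cent r ⟨_, rfl⟩ hix.symm)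
    · obtain ⟨h, hh⟩ := isConj_iff.1 (S.conj_u r)
      have hhu : phi (moEl uMo) = phi h * phi i0 * (phi h)⁻¹ := by rw [← hh, map_mul, map_mul, map_inv]
      have hm := S.core_u (x := phi h * x * (phi h)⁻¹)
        (IsConj.trans (isConj_iff.2 ⟨(phi h)⁻¹, by group⟩) hx)
        (by rw [hhu]; exact hix.symm.map (MulAut.conj (phi h)).toMonoidHom)
        (by
          rw [hhu]
          exact IsConj.trans (isConj_iff.2 ⟨(phi h)⁻¹, by group⟩)
            (hxi.elim (fun e => e.trans haz) fun e => e.trans hx))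
      refine hout ?_
      have : x = (phi h)⁻¹ * (phi h * x * (phi h)⁻¹) * phi h := by group
      rw [this]
      exact mul_mem (mul_mem (inv_mem ⟨_, rfl⟩) hm) ⟨_, rfl⟩
    · refine S.no_b haz (q := phi a * phi i0) (Or.inl ?_) ((Commute.refl _).mul_right hiA.symm) ?_
      · exact hAi.elim (fun e => e.trans haz) fun e => e.trans hx
      · rwa [← mul_assoc, hA2, one_mul]

/-- The centraliser of the dodecad involution lies in Co₁. -/
theorem Setting.cent_u {g : G} (hg : Commute g (phi (moEl uMo))) : g ∈ phi.range := by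
  have h2 := a2_facts
  have ha2 : moEl a2Mo * moEl a2Mo = 1 := sq_of h2.1 h2.2.2.2.2.2.1
  have haz : IsConj (moEl a2Mo) z1 := conj_z_of_tr (tr_of_aTest h2.1 h2.2.1) ha2
  have hau : Commute (phi (moEl a2Mo)) (phi (moEl uMo)) := S.comm_moEl h2.1 uMo_ok h2.2.2.2.1
  have hy : IsConj (g * phi (moEl a2Mo) * g⁻¹) (phi z1) :=
    IsConj.trans (isConj_iff.2 ⟨g⁻¹, by group⟩) (phi.map_isConj haz)
  have hyu : Commute (g * phi (moEl a2Mo) * g⁻¹) (phi (moEl uMo)) :=
    (hg.mul_left hau).mul_left hg.inv_left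
  obtain ⟨b, hb⟩ := S.z_cent_u hy hyu
  obtain ⟨h, hh⟩ := isConj_iff.1 ((S.conj_z (hb.symm ▸ hy)).trans haz.symm)
  have hcm : Commute (phi h * g) (phi (moEl a2Mo)) := by
    show _ = _
    have e : phi h * (g * phi (moEl a2Mo) * g⁻¹) * (phi h)⁻¹ = phi (moEl a2Mo) := by
      rw [← hb, ← map_inv, ← map_mul, ← map_mul, hh]
    calc phi h * g * phi (moEl a2Mo) = phi h * (g * phi (moEl a2Mo) * g⁻¹) * (phi h)⁻¹ * (phi h * g) := by group
      _ = _ := by rw [e]
  have hm := S.cent (phi.map_isConj haz) ⟨_, rfl⟩ hcm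
  rw [← inv_mul_cancel_left (phi h) g]
  exact mul_mem (inv_mem ⟨_, rfl⟩) hm

/-- Every conjugate of the octad involution lies in Co₁. -/
theorem Setting.z_mem {x : G} (hx : IsConj x (phi z1)) : x ∈ phi.range := by
  by_contra hout
  have hx2 : x * x = 1 := S.sq_conj hx (by rw [z1, ← map_mul, E8Cent.t0_sq, map_one])
  have hU2 : phi (moEl uMo) * phi (moEl uMo) = 1 := by rw [← map_mul, u_sq, map_one]
  rcases dihedral hU2 hx2 with ⟨c, -, hcx⟩ | ⟨i, hi2, hi1, hiU, hix, -, -, hxi⟩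
  · exact S.zu ((isConj_iff.2 ⟨c, hcx⟩ : IsConj (phi (moEl uMo)) x).trans hx).symm
  · obtain ⟨i0, rfl⟩ := S.cent_u hiU
    rcases S.tri _ (orderOf_two hi2 hi1) with r | r | r
    · exact hout (S.cent r ⟨_, rfl⟩ hix.symm)
    · obtain ⟨h, hh⟩ := isConj_iff.1 (S.conj_u r)
      have hcm : Commute (phi h * x * (phi h)⁻¹) (phi (moEl uMo)) := by
        rw [← hh, map_mul, map_mul, map_inv]
        exact hix.symm.map (MulAut.conj (phi h)).toMonoidHom
      have hm := S.cent_u hcm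
      refine hout ?_
      have : x = (phi h)⁻¹ * (phi h * x * (phi h)⁻¹) * phi h := by group
      rw [this]
      exact mul_mem (mul_mem (inv_mem ⟨_, rfl⟩) hm) ⟨_, rfl⟩
    · refine S.no_b hx (q := x * phi i0) ?_ ((Commute.refl _).mul_right hix.symm) ?_
      · exact hxi.elim Or.inr fun e => Or.inl (e.trans hx)
      · rwa [← mul_assoc, hx2, one_mul]

omit S in
/-- **The endgame.** -/
theorem surjective_of (phi : Spor.Co1 →* G) (inj : Function.Injective phi)
    (hC : ∀ g, g * phi z1 = phi z1 * g → g ∈ phi.range)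
    (h3 : ∃ a b c : G, orderOf a = 2 ∧ orderOf b = 2 ∧ orderOf c = 2 ∧ ¬ IsConj a b ∧ ¬ IsConj a c ∧
      ¬ IsConj b c ∧ ∀ x : G, orderOf x = 2 → IsConj x a ∨ IsConj x b ∨ IsConj x c)
    (hmeet : ∀ x : G, x * x = 1 → ∃ g : G, g * x * g⁻¹ * phi z1 = phi z1 * (g * x * g⁻¹)) : Function.Surjective phi := by
  have S := Setting.of phi inj hC h3 hmeet
  intro g
  have hy : IsConj (g * phi z1 * g⁻¹) (phi z1) := isConj_iff.2 ⟨g⁻¹, by group⟩
  obtain ⟨b, hb⟩ := S.z_mem hy
  obtain ⟨h, hh⟩ := isConj_iff.1 (S.conj_z (hb.symm ▸ hy))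
  have hm : phi h * g ∈ phi.range := by
    refine hC _ ?_
    have e : phi h * (g * phi z1 * g⁻¹) * (phi h)⁻¹ = phi z1 := by
      rw [← hb, ← map_inv, ← map_mul, ← map_mul, hh]
    calc phi h * g * phi z1 = phi h * (g * phi z1 * g⁻¹) * (phi h)⁻¹ * (phi h * g) := by group
      _ = _ := by rw [e]
  obtain ⟨k, hk⟩ := hm
  exact ⟨h⁻¹ * k, by rw [map_mul, map_inv, hk, inv_mul_cancel_left]⟩

end Cfsg.Agent.Co1Endgame
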