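import Cfsg.Agent.Lib.Co1Recog.Endgame.Classes

/-!
A finite group with three classes of involutions containing Co₁ with the centraliser of the octad involution:
fusion, and the lemma on two involutions.
-/

set_option autoImplicit false
set_option maxRecDepth 20000
set_option linter.unusedSectionVars false

namespace Cfsg.Agent.Co1Endgame

open Cfsg
open Cfsg.Agent.E8Cent (z1)

universe u

variable {G : Type u} [Group G]

theorem two_classes {p q a b c : G} (ha : IsConj a p ∨ IsConj a q) (hb : IsConj b p ∨ IsConj b q)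
    (hc : IsConj c p ∨ IsConj c q) (hab : ¬ IsConj a b) (hac : ¬ IsConj a c) (hbc : ¬ IsConj b c) : False := by
  rcases ha with a' | a' <;> rcases hb with b' | b' <;> rcases hc with c' | c' <;>
    first
      | exact hab (a'.trans b'.symm)
      | exact hac (a'.trans c'.symm)
      | exact hbc (b'.trans c'.symm)

theorem inv_mul_conj {a x : G} (ha : a * a = 1) (hx : x * x = 1) : a * (a * x) * a⁻¹ = (a * x)⁻¹ := by
  rw [mul_inv_rev, inv_eq_of_mul_eq_one_right ha, inv_eq_of_mul_eq_one_right hx, ← mul_assoc a a, ha, one_mul]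

theorem mul_pow_mul {a x : G} (ha : a * a = 1) (hx : x * x = 1) (k : ℕ) :
    a * (a * x) ^ k = ((a * x) ^ k)⁻¹ * a := by
  have h := conj_pow (i := k) (a := a) (b := a * x)
  rw [inv_mul_conj ha hx, inv_pow] at h
  rw [h, inv_mul_cancel_right]

theorem pow_conj {a x : G} (ha : a * a = 1) (hx : x * x = 1) (j : ℕ) :
    IsConj (a * (a * x) ^ j) a ∨ IsConj (a * (a * x) ^ j) x := by
  obtain ⟨l, rfl | rfl⟩ := Nat.even_or_odd' j
  · refine Or.inl (isConj_iff.2 ⟨(a * x) ^ l, ?_⟩)
    rw [two_mul, pow_add]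
    calc (a * x) ^ l * (a * ((a * x) ^ l * (a * x) ^ l)) * ((a * x) ^ l)⁻¹
        = (a * x) ^ l * (a * (a * x) ^ l) := by group
      _ = a := by rw [mul_pow_mul ha hx, mul_inv_cancel_left]
  · refine Or.inr (isConj_iff.2 ⟨(a * x) ^ l, ?_⟩)
    rw [show 2 * l + 1 = l + 1 + l by ring, pow_add, pow_succ]
    calc (a * x) ^ l * (a * ((a * x) ^ l * (a * x) * (a * x) ^ l)) * ((a * x) ^ l)⁻¹
        = (a * x) ^ l * (a * (a * x) ^ l) * (a * x) := by group
      _ = x := by rw [mul_pow_mul ha hx, mul_inv_cancel_left, ← mul_assoc, ha, one_mul]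

/-- **Two involutions**: either they are conjugate by an element commuting with their common centraliser, or
some involution commutes with both, with their common centraliser, and has products conjugate to one of them. -/
theorem dihedral [Finite G] {a x : G} (ha : a * a = 1) (hx : x * x = 1) :
    (∃ c, (∀ w, Commute w a → Commute w x → Commute w c) ∧ c * a * c⁻¹ = x) ∨
    ∃ i, i * i = 1 ∧ i ≠ 1 ∧ Commute i a ∧ Commute i x ∧ (∀ w, Commute w a → Commute w x → Commute w i) ∧
      (IsConj (a * i) a ∨ IsConj (a * i) x) ∧ (IsConj (x * i) a ∨ IsConj (x * i) x) := by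
  have hn : 0 < orderOf (a * x) := orderOf_pos _
  have hr := pow_orderOf_eq_one (a * x)
  obtain ⟨m, hm | hm⟩ := Nat.even_or_odd' (orderOf (a * x))
  · right
    have hm0 : 0 < m := by omega
    have hr2 : (a * x) ^ m * (a * x) ^ m = 1 := by rw [← pow_add, ← two_mul, ← hm, hr]
    have hai : Commute ((a * x) ^ m) a := by
      show _ = _
      rw [mul_pow_mul ha hx, inv_eq_of_mul_eq_one_right hr2]
    have hia : Commute ((a * x) ^ m) x := by
      have h : Commute ((a * x) ^ m) (a * (a * x)) := hai.mul_right (Commute.self_pow _ m).symm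
      rwa [← mul_assoc, ha, one_mul] at h
    have hxe : x * (a * x) ^ m = a * (a * x) ^ (m + 1) := by
      rw [pow_succ', ← mul_assoc a, ← mul_assoc a, ha, one_mul]
    refine ⟨_, hr2, fun e => ?_, hai, hia, fun w h1 h2 => (h1.mul_right h2).pow_right m, pow_conj ha hx m, ?_⟩
    · have := Nat.le_of_dvd hm0 (orderOf_dvd_of_pow_eq_one e)
      omega
    · rw [hxe]; exact pow_conj ha hx _
  · left
    refine ⟨(a * x) ^ m, fun w h1 h2 => (h1.mul_right h2).pow_right m, ?_⟩
    have e1 : a * (a * x) ^ m = ((a * x) ^ m)⁻¹ * a := mul_pow_mul ha hx m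
    have e2 : (a * x) ^ m * a = a * ((a * x) ^ m)⁻¹ :=
      eq_mul_inv_iff_mul_eq.2 (by rw [mul_assoc, e1, mul_inv_cancel_left])
    have e3 : ((a * x) ^ m)⁻¹ * ((a * x) ^ m)⁻¹ = a * x := by
      rw [← mul_inv_rev, inv_eq_iff_mul_eq_one, ← pow_add, ← pow_succ, ← two_mul, ← hm, hr]
    rw [e2, mul_assoc, e3, ← mul_assoc, ha, one_mul]

variable (phi : Spor.Co1 →* G)

/-- The hypotheses of the endgame, in the form used. -/
structure Setting : Prop where
  inj : Function.Injective phi
  centre : ∀ g, g * phi z1 = phi z1 * g → g ∈ phi.range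
  tri : ∀ x : G, orderOf x = 2 →
    IsConj x (phi z1) ∨ IsConj x (phi (moEl uMo)) ∨ IsConj x (phi (moEl bMo))
  zu : ¬ IsConj (phi z1) (phi (moEl uMo))
  zb : ¬ IsConj (phi z1) (phi (moEl bMo))
  ub : ¬ IsConj (phi (moEl uMo)) (phi (moEl bMo))

theorem orderOf_two {x : G} (h1 : x * x = 1) (h2 : x ≠ 1) : orderOf x = 2 :=
  orderOf_eq_prime (by rw [pow_two, h1]) h2

theorem Setting.of (inj : Function.Injective phi)
    (hC : ∀ g, g * phi z1 = phi z1 * g → g ∈ phi.range)
    (h3 : ∃ a b c : G, orderOf a = 2 ∧ orderOf b = 2 ∧ orderOf c = 2 ∧ ¬ IsConj a b ∧ ¬ IsConj a c ∧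
      ¬ IsConj b c ∧ ∀ x : G, orderOf x = 2 → IsConj x a ∨ IsConj x b ∨ IsConj x c)
    (hmeet : ∀ x : G, x * x = 1 → ∃ g : G, g * x * g⁻¹ * phi z1 = phi z1 * (g * x * g⁻¹)) : Setting phi := by
  have tri : ∀ x : G, orderOf x = 2 →
      IsConj x (phi z1) ∨ IsConj x (phi (moEl uMo)) ∨ IsConj x (phi (moEl bMo)) := by
    intro x hx
    obtain ⟨g, hg⟩ := hmeet x (by rw [← pow_two, ← hx, pow_orderOf_eq_one])
    obtain ⟨a, ha⟩ := hC _ hg
    have hxa : IsConj x (phi a) := isConj_iff.2 ⟨g, ha.symm⟩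
    have hoa : orderOf a = 2 := by
      rw [← orderOf_injective phi inj a, ha, ← hx]
      exact orderOf_injective (MulAut.conj g).toMonoidHom (MulAut.conj g).injective x
    rcases trichotomy hoa with r | r | r
    · exact Or.inl (hxa.trans (phi.map_isConj r))
    · exact Or.inr (Or.inl (hxa.trans (phi.map_isConj r)))
    · exact Or.inr (Or.inr (hxa.trans (phi.map_isConj r)))
  obtain ⟨a, b, c, ha, hb, hc, hab, hac, hbc, -⟩ := h3
  refine ⟨inj, hC, tri, fun h => ?_, fun h => ?_, fun h => ?_⟩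
  · have key : ∀ y : G, orderOf y = 2 → IsConj y (phi z1) ∨ IsConj y (phi (moEl bMo)) := fun y hy =>
      (tri y hy).elim Or.inl (Or.imp (fun r => r.trans h.symm) id)
    exact two_classes (key a ha) (key b hb) (key c hc) hab hac hbc
  · have key : ∀ y : G, orderOf y = 2 → IsConj y (phi z1) ∨ IsConj y (phi (moEl uMo)) := fun y hy =>
      (tri y hy).elim Or.inl (fun r => r.elim Or.inr fun s => Or.inl (s.trans h.symm))
    exact two_classes (key a ha) (key b hb) (key c hc) hab hac hbc
  · have key : ∀ y : G, orderOf y = 2 → IsConj y (phi z1) ∨ IsConj y (phi (moEl uMo)) := fun y hy =>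
      (tri y hy).imp id (fun r => r.elim id fun s => s.trans h.symm)
    exact two_classes (key a ha) (key b hb) (key c hc) hab hac hbc

variable {phi} (S : Setting phi)
include S

theorem Setting.conj_z {a : Spor.Co1} (h : IsConj (phi a) (phi z1)) : IsConj a z1 := by
  have ha : orderOf a = 2 := by
    obtain ⟨c, hc⟩ := isConj_iff.1 h
    rw [← orderOf_injective phi S.inj a,
      ← orderOf_injective (MulAut.conj c).toMonoidHom (MulAut.conj c).injective (phi a)]
    show orderOf (c * phi a * c⁻¹) = 2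
    rw [hc, orderOf_injective phi S.inj, E8Cent.z1_order]
  rcases trichotomy ha with r | r | r
  · exact r
  · exact absurd (h.symm.trans (phi.map_isConj r)) S.zu
  · exact absurd (h.symm.trans (phi.map_isConj r)) S.zb

theorem Setting.conj_u {a : Spor.Co1} (h : IsConj (phi a) (phi (moEl uMo))) : IsConj a (moEl uMo) := by
  have ha : orderOf a = 2 := by
    obtain ⟨c, hc⟩ := isConj_iff.1 h
    rw [← orderOf_injective phi S.inj a,
      ← orderOf_injective (MulAut.conj c).toMonoidHom (MulAut.conj c).injective (phi a)]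
    show orderOf (c * phi a * c⁻¹) = 2
    rw [hc, orderOf_injective phi S.inj, order_of tr_u (by norm_num) u_sq]
  rcases trichotomy ha with r | r | r
  · exact absurd ((phi.map_isConj r).symm.trans h) S.zu
  · exact r
  · exact absurd (h.symm.trans (phi.map_isConj r)) S.ub

/-- The centraliser of a member of the class of the octad involution in Co₁ lies in Co₁. -/
theorem Setting.cent {y g : G} (hy : IsConj y (phi z1)) (hr : y ∈ phi.range) (hg : Commute g y) :
    g ∈ phi.range := by
  obtain ⟨a, rfl⟩ := hr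
  obtain ⟨c, hc⟩ := isConj_iff.1 (S.conj_z hy)
  have h : (phi c * g * (phi c)⁻¹) * phi z1 = phi z1 * (phi c * g * (phi c)⁻¹) := by
    rw [← hc, map_mul, map_mul, map_inv]
    exact (hg.map (MulAut.conj (phi c)).toMonoidHom).eq
  have hm := S.centre _ h
  have e : g = (phi c)⁻¹ * (phi c * g * (phi c)⁻¹) * phi c := by group
  rw [e]
  exact mul_mem (mul_mem (inv_mem ⟨c, rfl⟩) hm) ⟨c, rfl⟩

/-- A product of a commuting pair from the two classes is not in the third. -/
theorem Setting.no_b {p q : G} (hp : IsConj p (phi z1)) (hq : IsConj q (phi z1) ∨ IsConj q (phi (moEl uMo)))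
    (hpq : Commute p q) : ¬ IsConj (p * q) (phi (moEl bMo)) := by
  intro hb
  obtain ⟨c, hc⟩ := isConj_iff.1 hp
  have hq' : Commute (phi z1) (c * q * c⁻¹) := hc ▸ hpq.map (MulAut.conj c).toMonoidHom
  obtain ⟨q0, hq0⟩ := S.centre _ hq'.symm.eq
  have hqc : IsConj q (phi q0) := isConj_iff.2 ⟨c, hq0.symm⟩
  have hcomm : z1 * q0 = q0 * z1 := S.inj (by rw [map_mul, map_mul, hq0]; exact hq'.eq)
  have hbc : IsConj (phi (z1 * q0)) (phi (moEl bMo)) := by
    refine (isConj_iff.2 ⟨c, ?_⟩ : IsConj (p * q) (phi (z1 * q0))).symm.trans hb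
    rw [map_mul, hq0, ← hc]
    group
  have hord : orderOf (z1 * q0) = 2 := by
    obtain ⟨d, hd⟩ := isConj_iff.1 hbc
    rw [← orderOf_injective phi S.inj,
      ← orderOf_injective (MulAut.conj d).toMonoidHom (MulAut.conj d).injective (phi (z1 * q0))]
    show orderOf (d * phi (z1 * q0) * d⁻¹) = 2
    rw [hd, orderOf_injective phi S.inj, order_of tr_b (by norm_num) b_sq]
  rcases trichotomy hord with r | r | r
  · exact S.zb ((phi.map_isConj r).symm.trans hbc)
  · exact S.ub ((phi.map_isConj r).symm.trans hbc)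
  · exact not_conj_b_mul (hq.imp (fun h => S.conj_z (hqc.symm.trans h)) fun h => S.conj_u (hqc.symm.trans h))
      hcomm r

theorem Setting.sq_conj {x : G} {a : Spor.Co1} (h : IsConj x (phi a)) (ha : a * a = 1) : x * x = 1 := by
  obtain ⟨c, rfl⟩ := isConj_iff.1 h.symm
  calc c * phi a * c⁻¹ * (c * phi a * c⁻¹) = c * (phi a * phi a) * c⁻¹ := by group
    _ = 1 := by rw [← map_mul, ha, map_one, mul_one, mul_inv_cancel]

end Cfsg.Agent.Co1Endgame
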