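import Cfsg.Agent.Lib.Co1Recog.Endgame.Setting
import Cfsg.Agent.Lib.Co1Recog.Endgame.ChecksNodes0
import Cfsg.Agent.Lib.Co1Recog.Endgame.ChecksNodes1
import Cfsg.Agent.Lib.Co1Recog.Endgame.ChecksNodes2
import Cfsg.Agent.Lib.Co1Recog.Endgame.ChecksNodes3
import Cfsg.Agent.Lib.Co1Recog.Endgame.ChecksNodes4
import Cfsg.Agent.Lib.Co1Recog.Endgame.ChecksNodes5

/-!
The tree: no member of the class of the octad involution outside Co₁ commutes with a dodecad involution and has
product with it in the same class.
-/

set_option autoImplicit false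
set_option maxRecDepth 20000
set_option linter.unusedSectionVars false

namespace Cfsg.Agent.Co1Endgame

open Cfsg Cfsg.Agent.PermCert
open Cfsg.Agent.E8Cent (z1)
open Cfsg.Agent.Golay (imgMask maskSet)
open scoped Pointwise

attribute [local irreducible] nodeList kidList candList stabList transList

universe u

/-! ### The checks of the nodes -/

theorem nodes_all {n : ℕ} (hn : n < 128) : nodeOK n = true := by
  have key : ∀ a, nodesOK a 8 = true → a ≤ n → n < a + 8 → nodeOK n = true := fun a h h1 h2 => by
    have := allBelow_spec _ _ h (n - a) (by omega)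
    rwa [show a + (n - a) = n by omega] at this
  have : n / 8 < 16 := by omega
  interval_cases hq : n / 8
  · exact key 0 nodes_ok0 (by omega) (by omega)
  · exact key 8 nodes_ok1 (by omega) (by omega)
  · exact key 16 nodes_ok2 (by omega) (by omega)
  · exact key 24 nodes_ok3 (by omega) (by omega)
  · exact key 32 nodes_ok4 (by omega) (by omega)
  · exact key 40 nodes_ok5 (by omega) (by omega)
  · exact key 48 nodes_ok6 (by omega) (by omega)
  · exact key 56 nodes_ok7 (by omega) (by omega)
  · exact key 64 nodes_ok8 (by omega) (by omega)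
  · exact key 72 nodes_ok9 (by omega) (by omega)
  · exact key 80 nodes_ok10 (by omega) (by omega)
  · exact key 88 nodes_ok11 (by omega) (by omega)
  · exact key 96 nodes_ok12 (by omega) (by omega)
  · exact key 104 nodes_ok13 (by omega) (by omega)
  · exact key 112 nodes_ok14 (by omega) (by omega)
  · exact key 120 nodes_ok15 (by omega) (by omega)

theorem forceElt_eq {α : Type} (e : Elt) (k : Elt → α) : forceElt e k = k e := by
  rw [forceElt, force_eq, force_eq]

theorem forceMo_eq {α : Type} (e : Mo) (k : Mo → α) : forceMo e k = k e := by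
  rw [forceMo, force_eq, forceElt_eq]

theorem forceList_eq : ∀ (l : List Mo) (k : List Mo → Bool), forceList l k = k l
  | [], _ => rfl
  | e :: l, k => by rw [forceList, forceMo_eq, forceList_eq l]

theorem withVals_eq (f : Mo → ℕ) : ∀ (l : List Mo) (k : List (Mo × ℕ) → Bool),
    withVals f l k = k (l.map fun e => (e, f e))
  | [], _ => rfl
  | e :: l, k => by rw [withVals, force_eq, withVals_eq f l]; rfl

theorem spanMo_gen : ∀ (l : List Mo) (g : Mo), g ∈ l → g ∈ spanMo l
  | h :: l, g, hg => by
    rw [spanMo, List.mem_append, List.mem_cons]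
    rcases List.mem_cons.1 hg with rfl | r
    · exact Or.inr (Or.inl rfl)
    · exact Or.inl (spanMo_gen l g r)

theorem spanChk_gen : ∀ (l : List Mo), spanChk l = true → ∀ g ∈ l, okMo g = true
  | h :: l, hc, g, hg => by
    simp only [spanChk, Bool.and_eq_true] at hc
    rcases List.mem_cons.1 hg with rfl | r
    · exact hc.1.2
    · exact spanChk_gen l hc.1.1 g r

theorem spanChk_spec {K : Type u} [Group K] (f : Spor.Co1 →* K) (w : K) :
    ∀ (l : List Mo), spanChk l = true → (∀ g ∈ l, Commute w (f (moEl g))) →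
      ∀ e ∈ spanMo l, okMo e = true ∧ Commute w (f (moEl e))
  | [], _, _, e, he => by simp [spanMo] at he
  | h :: l, hc, hw, e, he => by
    have hok := spanChk_gen _ hc h List.mem_cons_self
    simp only [spanChk, Bool.and_eq_true] at hc
    have ih := spanChk_spec f w l hc.1.1 fun g hg => hw g (List.mem_cons_of_mem _ hg)
    rw [spanMo, List.mem_append, List.mem_cons, List.mem_map] at he
    rcases he with r | rfl | ⟨y, hy, rfl⟩
    · exact ih e r
    · exact ⟨hok, hw _ List.mem_cons_self⟩
    · obtain ⟨hoy, hcy⟩ := ih y hy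
      have hm := hc.2
      rw [forceList_eq, List.all_eq_true] at hm
      have hm := hm y hy
      rw [forceMo_eq] at hm
      rw [Bool.and_eq_true] at hm
      refine ⟨hm.1, ?_⟩
      have he := (prodEq_iff hm.1 oneMo_ok hok hoy).1 hm.2
      rw [moEl_one, mul_one] at he
      rw [he, map_mul]
      exact (hw h List.mem_cons_self).mul_right hcy

theorem imgF_eq (e : Elt) {m : ℕ} (hm : m < 2 ^ 24) : imgF e m = imgMask e m := by
  rcases Bool.eq_false_or_eq_true (Nat.beq e.1 idElt.1 && Nat.beq e.2 idElt.2) with h | h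
  · rw [imgF, h, cond_true]
    rw [Bool.and_eq_true, Nat.beq_eq, Nat.beq_eq] at h
    obtain rfl : e = idElt := Prod.ext h.1 h.2
    have hid : validElt 5 24 idElt = true := by decide +kernel
    refine Golay.maskSet_inj hm (Golay.mkMask_lt _ _) ?_
    rw [← Golay.maskSet_imgMask hid, idElt_perm]
    exact (one_smul (Equiv.Perm GolayPt) (maskSet m)).symm
  · rw [imgF, h, cond_false]

theorem scanMasks_spec (G E : List (Mo × ℕ)) (kids : ℕ) :
    ∀ (ms : List ℕ) (off : ℕ), scanMasks G E kids off ms = true → ∀ j, j < ms.length →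
      (∀ p ∈ G, eqS (p.1.1 ^^^ imgF p.1.2 (ms.getD j 0)) (ms.getD j 0 ^^^ p.2) = true) →
      (∃ p ∈ E, trEight p.2 (p.1.1 ^^^ imgF p.1.2 (ms.getD j 0)) = true) ∨ kids.testBit (off + j) = true
  | [], _, _, j, hj, _ => by simp at hj
  | m :: ms, off, h, j, hj, hG => by
    simp only [scanMasks, force_eq, Bool.and_eq_true] at h
    cases j with
    | zero =>
      simp only [List.getD_cons_zero] at hG ⊢
      have h1 := h.1
      rw [List.all_eq_true.2 hG] at h1
      simp only [Bool.not_true, Bool.false_or, Bool.or_eq_true, List.any_eq_true] at h1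
      exact h1
    | succ j =>
      simp only [List.getD_cons_succ] at hG ⊢
      rw [show off + (j + 1) = off + 1 + j by omega]
      exact scanMasks_spec G E kids ms (off + 1) h.2 j (by simpa using hj) hG

theorem scan_spec (gs sp : List Mo) (kids : ℕ) :
    ∀ (l : List (Elt × List ℕ)) (off : ℕ), scan gs sp kids off l = true →
      (∀ e ∈ candFlat l, okMo e = true) → ∀ j, j < (candFlat l).length →
      (∀ g ∈ gs, commB g ((candFlat l).getD j oneMo) = true) →
      (∃ e ∈ sp, aTest e ((candFlat l).getD j oneMo) = true) ∨ kids.testBit (off + j) = true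
  | [], _, _, _, j, hj, _ => by simp [candFlat] at hj
  | (σ, ms) :: rest, off, h, hok, j, hj, hcomm => by
    simp only [scan, force_eq, withVals_eq, Bool.and_eq_true, Bool.or_eq_true] at h
    have hflat : candFlat ((σ, ms) :: rest) = (ms.map fun m => (m, σ)) ++ candFlat rest := rfl
    rw [hflat] at hok hj hcomm ⊢
    rw [List.length_append, List.length_map] at hj
    by_cases hjm : j < ms.length
    · have he : ((ms.map fun m => (m, σ)) ++ candFlat rest).getD j oneMo = (ms.getD j 0, σ) := by
        rw [List.getD_append _ _ _ _ (by simpa using hjm), List.getD_eq_getElem _ _ (by simpa using hjm),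
          List.getD_eq_getElem _ _ hjm, List.getElem_map]
      have hlt : ms.getD j 0 < 2 ^ 24 := (okMo_parts (hok (ms.getD j 0, σ) (List.mem_append.2 (Or.inl
        (List.mem_map.2 ⟨_, by rw [List.getD_eq_getElem _ _ hjm]; exact List.getElem_mem _, rfl⟩))))).2
      rw [he] at hcomm ⊢
      rcases h.1 with r | r
      · obtain ⟨g, hg, hg'⟩ := List.any_eq_true.1 r
        have hc := hcomm g hg
        simp only [commB, prodEqB, Bool.and_eq_true] at hc
        simp [hc.1] at hg'
      · rcases scanMasks_spec _ _ kids ms off r j hjm (fun p hp => by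
          obtain ⟨g, hg, rfl⟩ := List.mem_map.1 hp
          have hc := hcomm g hg
          simp only [commB, prodEqB, Bool.and_eq_true] at hc
          rw [imgF_eq _ hlt]
          exact hc.2) with ⟨p, hp, hp'⟩ | r'
        · obtain ⟨e, he', rfl⟩ := List.mem_map.1 hp
          rw [imgF_eq _ hlt] at hp'
          exact Or.inl ⟨e, he', hp'⟩
        · exact Or.inr r'
    · have he : ((ms.map fun m => (m, σ)) ++ candFlat rest).getD j oneMo =
          (candFlat rest).getD (j - ms.length) oneMo := by
        rw [List.getD_append_right _ _ _ _ (by simp; omega), List.length_map]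
      rw [he] at hcomm ⊢
      rcases scan_spec gs sp kids rest (off + ms.length) h.2
        (fun e he => hok e (List.mem_append.2 (Or.inr he))) (j - ms.length) (by omega) hcomm with r | r
      · exact Or.inl r
      · exact Or.inr (by rwa [show off + ms.length + (j - ms.length) = off + j by omega] at r)

theorem kidMask_spec : ∀ (l : List (ℕ × Mo × ℕ)) (j : ℕ), (kidMask l).testBit j = true → ∃ k ∈ l, k.1 = j
  | [], j, h => by simp [kidMask] at h
  | k :: l, j, h => by
    rw [kidMask, Nat.testBit_or, Bool.or_eq_true] at h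
    rcases h with r | r
    · exact ⟨k, List.mem_cons_self, by simpa [Nat.testBit_two_pow] using r⟩
    · obtain ⟨k', hk, hk'⟩ := kidMask_spec l j r
      exact ⟨k', List.mem_cons_of_mem _ hk, hk'⟩

theorem kidWalk_spec (P : ℕ × Mo × ℕ → Mo → Bool) : ∀ (l : List Mo) (off : ℕ) (ks : List (ℕ × Mo × ℕ)),
    kidWalk P off l ks = true → ∀ k ∈ ks, ∃ j < l.length, k.1 = off + j ∧ P k (l.getD j oneMo) = true
  | [], off, ks, h, k, hk => by
    simp only [kidWalk, List.isEmpty_iff] at h
    simp [h] at hk
  | c :: cs, off, [], h, k, hk => by simp at hk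
  | c :: cs, off, k0 :: ks, h, k, hk => by
    simp only [kidWalk, force_eq, forceMo_eq] at h
    rcases Bool.eq_false_or_eq_true (Nat.beq k0.1 off) with r | r
    · rw [r, cond_true, Bool.and_eq_true] at h
      rcases List.mem_cons.1 hk with rfl | q
      · exact ⟨0, by simp, by simpa using r, by simpa using h.1⟩
      · obtain ⟨j, hj, e1, e2⟩ := kidWalk_spec P cs (off + 1) ks h.2 k q
        exact ⟨j + 1, by simpa using hj, by omega, by simpa using e2⟩
    · rw [r, cond_false] at h
      obtain ⟨j, hj, e1, e2⟩ := kidWalk_spec P cs (off + 1) (k0 :: ks) h k hk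
      exact ⟨j + 1, by simpa using hj, by omega, by simpa using e2⟩

theorem conjAll_spec (g : Mo) : ∀ l l' : List Mo, conjAll g l l' = true → ∀ y ∈ l', ∃ x ∈ l, prodEqB g x y g = true
  | [], [], _, y, hy => by simp at hy
  | [], _ :: _, h, _, _ => by simp [conjAll] at h
  | _ :: _, [], _, y, hy => by simp at hy
  | a :: as, b :: bs, h, y, hy => by
    simp only [conjAll, Bool.and_eq_true] at h
    rcases List.mem_cons.1 hy with rfl | r
    · exact ⟨a, List.mem_cons_self, h.1⟩
    · obtain ⟨x, hx, hx'⟩ := conjAll_spec g as bs h.2 y r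
      exact ⟨x, List.mem_cons_of_mem _ hx, hx'⟩

theorem candAt_ok {k : ℕ} (hk : k < (candFlat candList).length) : okMo (candAt k) = true := by
  rw [candAt, List.getD_eq_getElem _ _ hk]
  exact candFlat_ok (List.getElem_mem _)

/-- The generators at a node. -/
def nodeGens (n : ℕ) : List Mo := uMo :: nodeList.getD n []

theorem node_spec {n : ℕ} (hn : n < 128) :
    spanChk (nodeGens n) = true ∧ (∀ g ∈ nodeGens n, commB g aMo = true) ∧
    (∀ e ∈ spanMo (nodeGens n), aTest aMo e = false ∧ prodEqB e e oneMo oneMo = true) ∧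
    scan (nodeList.getD n []) (spanMo (nodeGens n)) (kidMask (kidList.getD n [])) 0 candList = true ∧
    ∀ k ∈ kidList.getD n [], n < k.2.2 ∧ k.2.2 < 128 ∧ okMo k.2.1 = true ∧ commB k.2.1 uMo = true ∧
      conjAll k.2.1 (nodeList.getD n [] ++ [candAt k.1]) (nodeList.getD k.2.2 []) = true := by
  have h := nodes_all hn
  simp only [nodeOK, forceList_eq, force_eq, Bool.and_eq_true, List.all_eq_true] at h
  obtain ⟨⟨h1, h2⟩, ⟨h3, h4⟩, h5⟩ := h
  refine ⟨h1, fun g hg => ?_, fun e he => ?_, h4, fun k hk => ?_⟩
  · rcases List.mem_cons.1 hg with rfl | r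
    · exact a2_facts.2.2.2.2.1
    · exact h2 g r
  · obtain ⟨r1, r2⟩ := h3 e he
    exact ⟨by simpa using r1, r2⟩
  · obtain ⟨j, -, hj, hP⟩ := kidWalk_spec _ _ 0 _ h5 k hk
    rw [Nat.zero_add] at hj
    simp only [Bool.and_eq_true] at hP
    obtain ⟨⟨⟨⟨r1, r2⟩, r3⟩, r4⟩, r5⟩ := hP
    rw [show (candFlat candList).getD j oneMo = candAt k.1 by rw [hj]; rfl] at r5
    rw [node_root.2] at r2
    exact ⟨Nat.le_of_ble_eq_true r1, Nat.le_of_ble_eq_true r2, r3, r4, r5⟩

theorem a_conj : IsConj (moEl aMo) z1 :=
  conj_z_of_tr (tr_of_aTest aMo_ok basic_parts.2.2.2.2) (sq_of aMo_ok a2_facts.2.2.2.2.2.2.1)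

variable {G : Type u} [Group G] [Finite G] {phi : Spor.Co1 →* G} (S : Setting phi)
include S

theorem Setting.comm_moEl {e f : Mo} (he : okMo e = true) (hf : okMo f = true)
    (h : commB e f = true) : Commute (phi (moEl e)) (phi (moEl f)) := by
  show _ = _
  rw [← map_mul, ← map_mul, (comm_iff he hf).1 h]

theorem Setting.commute_of {a b : Spor.Co1} (h : Commute (phi a) (phi b)) : a * b = b * a :=
  S.inj (by rw [map_mul, map_mul]; exact h.eq)

/-- **The tree.** -/
theorem Setting.core (d : ℕ) : ∀ n : ℕ, n < 128 → 128 - n ≤ d → ∀ x : G, IsConj x (phi z1) →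
    (∀ g ∈ nodeGens n, Commute x (phi (moEl g))) → (∀ g ∈ nodeGens n, IsConj (x * phi (moEl g)) (phi z1)) →
    x ∈ phi.range := by
  induction d with
  | zero => intro n hn hd; omega
  | succ d ih =>
    intro n hn hd x hx hcomm hprod
    by_contra hout
    obtain ⟨hchk, hga, hsp, hscan, hkids⟩ := node_spec hn
    have hu : uMo ∈ nodeGens n := List.mem_cons_self
    have hokg := spanChk_gen _ hchk
    have hA : IsConj (phi (moEl aMo)) (phi z1) := phi.map_isConj a_conj
    have hA2 : phi (moEl aMo) * phi (moEl aMo) = 1 := S.sq_conj (IsConj.refl _) (sq_of aMo_ok a2_facts.2.2.2.2.2.2.1)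
    have hx2 : x * x = 1 := S.sq_conj hx (by rw [z1, ← map_mul, E8Cent.t0_sq, map_one])
    have hgA : ∀ g ∈ nodeGens n, Commute (phi (moEl g)) (phi (moEl aMo)) := fun g hg =>
      S.comm_moEl (hokg g hg) aMo_ok (hga g hg)
    rcases dihedral hA2 hx2 with ⟨c, hcc, hcx⟩ | ⟨i, hi2, hi1, hiA, hix, hcent, hAi, hxi⟩
    · have hcu := hcc _ (hgA _ hu) (hcomm _ hu).symm
      have h1 : IsConj (phi (moEl aMo * moEl uMo)) (phi z1) := by
        refine IsConj.trans (isConj_iff.2 ⟨c, ?_⟩) (hprod _ hu)
        rw [map_mul, ← hcx]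
        calc c * (phi (moEl aMo) * phi (moEl uMo)) * c⁻¹
            = c * phi (moEl aMo) * (phi (moEl uMo) * c⁻¹) := by group
          _ = _ := by rw [hcu.inv_right.eq, ← mul_assoc]
      have := tr_z.conj (S.conj_z h1).symm
      exact not_trEight aMo_ok uMo_ok (hsp _ (spanMo_gen _ _ hu)).1 this
    · obtain ⟨i0, rfl⟩ := S.cent hA ⟨_, rfl⟩ hiA
      have hoi : orderOf (phi i0) = 2 := orderOf_two hi2 hi1
      have hi_u : IsConj (phi i0) (phi (moEl uMo)) := by
        rcases S.tri _ hoi with r | r | r
        · exact absurd (S.cent r ⟨_, rfl⟩ hix.symm) hout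
        · exact r
        · exfalso
          refine S.no_b hA (q := phi (moEl aMo) * phi i0) (Or.inl ?_) ((Commute.refl _).mul_right hiA.symm) ?_
          · exact hAi.elim (fun h => h.trans hA) fun h => h.trans hx
          · rwa [← mul_assoc, hA2, one_mul]
      have hci := S.conj_u hi_u
      have hai : IsConj (moEl aMo * i0) z1 := S.conj_z (by
        rw [map_mul]; exact hAi.elim (fun h => h.trans hA) fun h => h.trans hx)
      have hgi : ∀ g ∈ nodeGens n, Commute (phi (moEl g)) (phi i0) := fun g hg =>
        hcent _ (hgA g hg) (hcomm g hg).symm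
      obtain ⟨k, hk, rfl⟩ := cand_complete (S.commute_of (hgi _ hu).symm) (S.commute_of hiA)
        (tr_u.conj hci.symm) (sqOne_u.conj hci.symm) (tr_z.conj hai.symm)
      have hok := candAt_ok hk
      rcases scan_spec _ _ _ candList 0 hscan (fun e he => candFlat_ok he) k hk (fun g hg =>
        (comm_iff (hokg g (List.mem_cons_of_mem _ hg)) hok).2
          (S.commute_of (hgi g (List.mem_cons_of_mem _ hg)))) with ⟨e, he, het⟩ | hbit
      · obtain ⟨hoke, hec⟩ := spanChk_spec phi (phi (moEl (candAt k))) _ hchk (fun g hg => (hgi g hg).symm) e he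
        obtain ⟨-, hex⟩ := spanChk_spec phi x _ hchk hcomm e he
        have hsq : moEl e * moEl (candAt k) * (moEl e * moEl (candAt k)) = 1 := by
          apply S.inj
          rw [map_one, map_mul, map_mul, mul_assoc, ← mul_assoc (phi (moEl (candAt k))), hec.eq, mul_assoc,
            hi2, mul_one, ← map_mul, sq_of hoke (hsp e he).2, map_one]
        have hez := phi.map_isConj (conj_z_of_tr (aTest_true hoke hok het) hsq)
        refine hout (S.cent hez ⟨_, rfl⟩ ?_)
        rw [map_mul]
        exact hex.mul_right hix.symm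
      · obtain ⟨kid, hkid, hkk⟩ := kidMask_spec _ _ hbit
        rw [Nat.zero_add] at hkk
        obtain ⟨hlt, hlt2, hokk, hku, hconj⟩ := hkids kid hkid
        rw [hkk] at hconj
        set c := phi (moEl kid.2.1) with hc
        have hcu : Commute c (phi (moEl uMo)) := S.comm_moEl hokk uMo_ok hku
        have key : ∀ y ∈ nodeGens kid.2.2,
            Commute (c * x * c⁻¹) (phi (moEl y)) ∧ IsConj (c * x * c⁻¹ * phi (moEl y)) (phi z1) := by
          intro y hy
          obtain ⟨g, hg, hgy⟩ : ∃ g : Spor.Co1, (Commute x (phi g) ∧ IsConj (x * phi g) (phi z1)) ∧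
              c * phi g * c⁻¹ = phi (moEl y) := by
            rcases List.mem_cons.1 hy with rfl | r
            · exact ⟨_, ⟨hcomm _ hu, hprod _ hu⟩, by rw [hcu.eq, mul_inv_cancel_right]⟩
            · obtain ⟨g, hg, hgy⟩ := conjAll_spec _ _ _ hconj y r
              have hoky : okMo y = true := spanChk_gen _ (node_spec hlt2).1 y (List.mem_cons_of_mem _ r)
              have hh : okMo g = true ∧ Commute x (phi (moEl g)) ∧ IsConj (x * phi (moEl g)) (phi z1) := by
                rcases List.mem_append.1 hg with q | q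
                · have q' := List.mem_cons_of_mem uMo q
                  exact ⟨hokg g q', hcomm g q', hprod g q'⟩
                · rw [List.mem_singleton] at q
                  subst q
                  exact ⟨hok, hix.symm, hxi.elim (fun h => h.trans hA) fun h => h.trans hx⟩
              refine ⟨_, hh.2, ?_⟩
              rw [hc, ← map_mul, (prodEq_iff hokk hh.1 hoky hokk).1 hgy, map_mul, mul_inv_cancel_right]
          rw [← hgy]
          exact ⟨hg.1.map (MulAut.conj c).toMonoidHom,
            IsConj.trans (isConj_iff.2 ⟨c⁻¹, by group⟩) hg.2⟩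
        have hm := ih kid.2.2 hlt2 (by omega) (c * x * c⁻¹)
          (IsConj.trans (isConj_iff.2 ⟨c⁻¹, by group⟩) hx) (fun y hy => (key y hy).1) fun y hy => (key y hy).2
        refine hout ?_
        have : x = c⁻¹ * (c * x * c⁻¹) * c := by group
        rw [this]
        exact mul_mem (mul_mem (inv_mem ⟨_, rfl⟩) hm) ⟨_, rfl⟩

theorem Setting.core_u {x : G} (hx : IsConj x (phi z1)) (hc : Commute x (phi (moEl uMo)))
    (hp : IsConj (x * phi (moEl uMo)) (phi z1)) : x ∈ phi.range := by
  have e : nodeGens 0 = [uMo] := by rw [nodeGens, node_root.1]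
  refine S.core 128 0 (by omega) (by omega) x hx (fun g hg => ?_) fun g hg => ?_
  all_goals
    rw [e, List.mem_singleton] at hg
    subst hg
  · exact hc
  · exact hp

end Cfsg.Agent.Co1Endgame
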